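import Cfsg.Agent.Lib.AltLinear.Perm

/-!
Pairs of elements of prime power order in an alternating group: criteria, cycle decompositions and transfer from an
invariant subset.
-/

set_option autoImplicit false
set_option linter.unusedSectionVars false

namespace CfsgLib.AltPair

open Equiv CfsgLib.AltLinear
open scoped commutatorElement

variable {p : ℕ}

/-- The order is a power of `p`. -/
def IsP (p : ℕ) {M : Type*} [Monoid M] (x : M) : Prop := ∃ k : ℕ, x ^ p ^ k = 1

/-- The product is not a `p`-element and the pair generates a non-solvable group. -/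
def Good (p : ℕ) {L : ℕ} (U V : Perm (Fin L)) : Prop :=
  ¬ IsP p (U * V) ∧ ¬ Group.IsSolvable ↥(Subgroup.closure ({U, V} : Set (Perm (Fin L))))

/-- Suitable conjugators of both signs. -/
def BothSigns (p : ℕ) {L : ℕ} (U W : Perm (Fin L)) : Prop :=
  ∀ ε : ℤˣ, ∃ h : Perm (Fin L), Perm.sign h = ε ∧ Good p U (h * W * h⁻¹)

theorem bothSigns_of_centraliser {L : ℕ} {U W h c : Perm (Fin L)} (hg : Good p U (h * W * h⁻¹))
    (hc : c * W = W * c) (hs : Perm.sign c = -1) : BothSigns p U W := by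
  intro ε
  rcases eq_or_ne (Perm.sign h) ε with e | e
  · exact ⟨h, e, hg⟩
  · refine ⟨h * c, ?_, ?_⟩
    · rw [map_mul, hs]
      rcases Int.units_eq_one_or (Perm.sign h) with h1 | h1 <;> rcases Int.units_eq_one_or ε with h2 | h2 <;>
        simp_all
    · rwa [show h * c * W * (h * c)⁻¹ = h * W * h⁻¹ by rw [mul_assoc h c W, hc]; group]

theorem bothSigns_of_two {L : ℕ} {U W h₁ h₂ : Perm (Fin L)} (g₁ : Good p U (h₁ * W * h₁⁻¹))
    (g₂ : Good p U (h₂ * W * h₂⁻¹)) (hs : Perm.sign h₁ ≠ Perm.sign h₂) : BothSigns p U W := by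
  intro ε
  rcases Int.units_eq_one_or ε with h | h <;> rcases Int.units_eq_one_or (Perm.sign h₁) with a | a <;>
    rcases Int.units_eq_one_or (Perm.sign h₂) with b | b <;> subst h <;>
    first
      | exact ⟨h₁, a, g₁⟩
      | exact ⟨h₂, b, g₂⟩
      | exact absurd (a.trans b.symm) hs

theorem bothSigns_conj {L : ℕ} {U W k : Perm (Fin L)} (h : BothSigns p U W) : BothSigns p U (k * W * k⁻¹) := by
  intro ε
  obtain ⟨g, hg, hgood⟩ := h (ε * Perm.sign k)
  refine ⟨g * k⁻¹, ?_, by rwa [show g * k⁻¹ * (k * W * k⁻¹) * (g * k⁻¹)⁻¹ = g * W * g⁻¹ by group]⟩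
  rw [map_mul, hg, map_inv, mul_assoc, mul_inv_cancel, mul_one]

/-- Generators which are commutators in the group they generate. -/
theorem not_solvable_of_commutators {G : Type*} [Group G] {a b A B C D : G}
    (hA : A ∈ Subgroup.closure ({a, b} : Set G)) (hB : B ∈ Subgroup.closure ({a, b} : Set G))
    (hC : C ∈ Subgroup.closure ({a, b} : Set G)) (hD : D ∈ Subgroup.closure ({a, b} : Set G))
    (ea : A * B * A⁻¹ * B⁻¹ = a) (eb : C * D * C⁻¹ * D⁻¹ = b) (ha : a ≠ 1) :
    ¬ Group.IsSolvable ↥(Subgroup.closure ({a, b} : Set G)) := by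
  set H := Subgroup.closure ({a, b} : Set G) with hH
  intro hs
  obtain ⟨k, hk⟩ := hs
  have key : ∀ i, derivedSeries ↥H i = ⊤ := by
    intro i
    induction i with
    | zero => rfl
    | succ i ih =>
      rw [derivedSeries_succ, ih]
      refine top_le_iff.mp fun x _ => ?_
      suffices h : H ≤ ((⁅⊤, ⊤⁆ : Subgroup ↥H)).map H.subtype by
        obtain ⟨y, hy, e⟩ := h x.2
        rwa [← Subtype.ext (a1 := y) (a2 := x) e]
      rw [hH, Subgroup.closure_le]
      intro z hz
      rcases hz with rfl | rfl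
      · exact ⟨⁅(⟨A, hA⟩ : H), ⟨B, hB⟩⁆, Subgroup.commutator_mem_commutator (Subgroup.mem_top _) (Subgroup.mem_top _),
          ea⟩
      · exact ⟨⁅(⟨C, hC⟩ : H), ⟨D, hD⟩⁆, Subgroup.commutator_mem_commutator (Subgroup.mem_top _) (Subgroup.mem_top _),
          eb⟩
  have h1 : (⟨a, Subgroup.subset_closure (Set.mem_insert _ _)⟩ : H) ∈ derivedSeries ↥H k := key k ▸ Subgroup.mem_top _
  rw [hk, Subgroup.mem_bot] at h1
  exact ha (congrArg Subtype.val h1)

/-- The even elements of a subgroup of the symmetric group. -/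
def evens {L : ℕ} (G : Subgroup (Perm (Fin L))) : Subgroup (Alt L) := G.comap (alternatingGroup (Fin L)).subtype

/-- A subgroup containing an alternating group on five points is not solvable. -/
theorem not_solvable_of_five {L : ℕ} {G : Subgroup (Perm (Fin L))} {S : Finset (Fin L)} (hS : 5 ≤ S.card)
    (hle : fixOut S ≤ evens G) : ¬ Group.IsSolvable ↥G := by
  intro hs
  obtain ⟨T, hTS, hT⟩ := Finset.exists_subset_card_eq hS
  obtain ⟨φ, hφi, hφr⟩ := exists_emb T hT
  let j : Alt 5 →* ↥G := ((alternatingGroup (Fin L)).subtype.comp φ).codRestrict G fun x =>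
    hle (fixOut_mono hTS (hφr ▸ ⟨x, rfl⟩))
  have hj : Function.Injective j := fun a b e => hφi (Subtype.ext (congrArg Subtype.val e :))
  haveI := hs
  haveI : Group.IsSolvable (Alt 5) := Group.isSolvable_of_isSolvable_injective hj
  haveI := alt_simple (r := 5) le_rfl
  have hcomm := (IsSimpleGroup.comm_iff_isSolvable (G := Alt 5)).mpr inferInstance
  exact absurd (hcomm (sw (0 : Fin 5) 1 1 2 (by decide) (by decide)) (sw (0 : Fin 5) 1 2 3 (by decide) (by decide)))
    (by decide)

/-- A three-cycle gives the supported subgroup of its three points. -/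
theorem fixOut_le_of_three {L : ℕ} {G : Subgroup (Perm (Fin L))} {T : Finset (Fin L)} (hT : T.card = 3)
    {c : Perm (Fin L)} (hc : c ∈ G) (hs : Perm.sign c = 1) (hsupp : ∀ z, z ∉ T → c z = z) (hc1 : c ≠ 1) :
    fixOut T ≤ evens G := by
  obtain ⟨φ, hφi, hφr⟩ := exists_emb T hT
  have hm : (⟨c, hs⟩ : Alt L) ∈ φ.range := hφr ▸ hsupp
  obtain ⟨c', hc'⟩ := hm
  have hc'1 : c' ≠ 1 := fun e => hc1 (by
    rw [e, map_one] at hc'
    exact (congrArg Subtype.val hc').symm)
  rw [← hφr]
  rintro _ ⟨x, rfl⟩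
  have hel : ∀ x c : Alt 3, c ≠ 1 → x = 1 ∨ x = c ∨ x = c * c := by decide +kernel
  rcases hel x c' hc'1 with rfl | rfl | rfl
  · rw [map_one]; exact one_mem _
  · rw [hc']; exact hc
  · rw [map_mul, hc']; exact mul_mem (s := evens G) hc hc

/-- The commutator of two permutations whose supports share exactly one point. -/
theorem commutator_one_point {L : ℕ} {f g : Perm (Fin L)} {o : Fin L} (hfg : ∀ z, f z ≠ z → g z ≠ z → z = o)
    (hf : f o ≠ o) (hg : g o ≠ o) :
    (∀ z, z ∉ ({o, f o, g o} : Finset (Fin L)) → (f * g * f⁻¹ * g⁻¹) z = z) ∧ f * g * f⁻¹ * g⁻¹ ≠ 1 ∧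
      ({o, f o, g o} : Finset (Fin L)).card = 3 := by
  have hfo : ∀ z, z ≠ o → f z ≠ z → g z = z := fun z hz h => by_contra fun h' => hz (hfg z h h')
  have hgo : ∀ z, z ≠ o → g z ≠ z → f z = z := fun z hz h => by_contra fun h' => hz (hfg z h' h)
  have hne : f o ≠ g o := fun e => hf (hfg (f o) (fun h => hf (f.injective h)) (e ▸ fun h => hg (g.injective h)))
  refine ⟨fun z hz => ?_, fun h => ?_, Finset.card_eq_three.mpr ⟨o, f o, g o, Ne.symm hf, Ne.symm hg, hne, rfl⟩⟩
  · simp only [Finset.mem_insert, Finset.mem_singleton, not_or] at hz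
    obtain ⟨z0, z1, z2⟩ := hz
    show f (g (f⁻¹ (g⁻¹ z))) = z
    obtain ⟨y, rfl⟩ := g.surjective z
    simp only [Perm.inv_def, symm_apply_apply]
    have y0 : y ≠ o := fun e => z2 (e ▸ rfl)
    by_cases hy : g y = y
    · obtain ⟨x, rfl⟩ := f.surjective y
      simp only [symm_apply_apply]
      rw [hy] at z1 ⊢
      have x0 : x ≠ o := fun e => z1 (e ▸ rfl)
      by_cases hx : f x = x
      · rw [hx] at hy
        rw [hy]
      · rw [hfo x x0 hx]
    · have e1 := hgo y y0 hy
      have e2 : (Equiv.symm f) y = y := (symm_apply_eq f).mpr e1.symm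
      rw [e2, hgo (g y) z0 fun h => hy (g.injective h)]
  · have hgg : g (f⁻¹ o) = f⁻¹ o := hfo _ (fun e => hf (by rw [Perm.inv_eq_iff_eq] at e; exact e.symm))
      (by rw [← Perm.mul_apply, mul_inv_cancel, Perm.one_apply]; exact fun e => hf (by
        rw [eq_comm, Perm.inv_eq_iff_eq] at e; exact e.symm))
    have := congrArg (fun q : Perm (Fin L) => q (g o)) h
    simp only [Perm.mul_apply, Perm.one_apply, ← Perm.mul_apply g⁻¹ g, inv_mul_cancel] at this
    rw [hgg, ← Perm.mul_apply, mul_inv_cancel, Perm.one_apply] at this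
    exact hg this.symm

/-- A cyclic successor. -/
def nxt {m : ℕ} (k : Fin m) : Fin m := ⟨(k.1 + 1) % m, Nat.mod_lt _ (by have := k.2; omega)⟩

/-- A decomposition into cycles, fixed points included. -/
structure Decomp (p : ℕ) {N : ℕ} (w : Perm (Fin N)) where
  c : ℕ
  len : Fin c → ℕ
  e : (Σ i, Fin (len i)) ≃ Fin N
  spec : ∀ i k, w (e ⟨i, k⟩) = e ⟨i, nxt k⟩
  pow : ∀ i, ∃ a, len i = p ^ a

theorem exists_decomp (hp : p.Prime) {N : ℕ} (w : Perm (Fin N)) (hw : IsP p w) : Nonempty (Decomp p w) := by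
  classical
  obtain ⟨K, hK⟩ := hw
  let S : Setoid (Fin N) := Perm.SameCycle.setoid w
  let Q := Quotient S
  haveI : Fintype Q := Fintype.ofFinite Q
  let e₀ : Fin (Fintype.card Q) ≃ Q := (Fintype.equivFin Q).symm
  let rep : Fin (Fintype.card Q) → Fin N := fun i => (e₀ i).out
  let len : Fin (Fintype.card Q) → ℕ := fun i => Function.minimalPeriod w (rep i)
  have hfix : ∀ x, w^[p ^ K] x = x := fun x => by rw [Perm.iterate_eq_pow, hK]; rfl
  let F : (Σ i, Fin (len i)) → Fin N := fun x => w^[x.2.1] (rep x.1)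
  have hF : Function.Bijective F := by
    constructor
    · rintro ⟨i, k⟩ ⟨j, l⟩ h
      have hij : i = j := by
        refine e₀.injective ?_
        rw [← Quotient.out_eq (e₀ i), ← Quotient.out_eq (e₀ j)]
        refine Quotient.sound ?_
        show Perm.SameCycle w (rep i) (rep j)
        have h' : Perm.SameCycle w (w^[k.1] (rep i)) (w^[l.1] (rep j)) := by
          rw [show w^[k.1] (rep i) = w^[l.1] (rep j) from h]
        rwa [Perm.iterate_eq_pow, Perm.iterate_eq_pow, Perm.sameCycle_pow_left, Perm.sameCycle_pow_right] at h'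
      subst hij
      exact congrArg (Sigma.mk i) (Fin.ext (Function.iterate_injOn_Iio_minimalPeriod k.2 l.2 h))
    · intro x
      let i := e₀.symm (Quotient.mk S x)
      have hs : Perm.SameCycle w (rep i) x := by
        have : Quotient.mk S (rep i) = Quotient.mk S x := by
          show Quotient.mk S (e₀ i).out = _
          rw [Quotient.out_eq, show i = e₀.symm (Quotient.mk S x) from rfl, apply_symm_apply]
        exact Quotient.exact this
      obtain ⟨m, hm⟩ := hs.exists_nat_pow_eq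
      have hpos : 0 < len i :=
        Function.IsPeriodicPt.minimalPeriod_pos (pow_pos hp.pos K) (hfix _)
      refine ⟨⟨i, ⟨m % len i, Nat.mod_lt _ hpos⟩⟩, ?_⟩
      show w^[m % len i] (rep i) = x
      rw [Function.iterate_mod_minimalPeriod_eq, Perm.iterate_eq_pow, hm]
  refine ⟨⟨Fintype.card Q, len, Equiv.ofBijective F hF, fun i k => ?_, fun i => ?_⟩⟩
  · show w (w^[k.1] (rep i)) = w^[(k.1 + 1) % len i] (rep i)
    rw [Function.iterate_mod_minimalPeriod_eq, ← Function.iterate_succ_apply' w k.1]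
  · obtain ⟨a, -, ha⟩ := (Nat.dvd_prime_pow hp).mp (Function.IsPeriodicPt.minimalPeriod_dvd (hfix (rep i)))
    exact ⟨a, ha⟩

variable {N : ℕ} {w : Perm (Fin N)}

theorem Decomp.len_pos (hp : p.Prime) (D : Decomp p w) (i : Fin D.c) : 0 < D.len i := by
  obtain ⟨a, ha⟩ := D.pow i
  rw [ha]
  exact pow_pos hp.pos a

theorem Decomp.sum_len (D : Decomp p w) : ∑ i, D.len i = N := by
  have := Fintype.card_congr D.e
  simpa [Fintype.card_sigma] using this

theorem Decomp.odd (hp : p.Prime) (hp3 : 3 ≤ p) (D : Decomp p w) (i : Fin D.c) : Odd (D.len i) := by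
  obtain ⟨a, ha⟩ := D.pow i
  rw [ha]
  exact (hp.odd_of_ne_two (by omega)).pow

theorem Decomp.exists_big (hp : p.Prime) (D : Decomp p w) (hw : w ≠ 1) : ∃ i, p ≤ D.len i := by
  by_contra h
  simp only [not_exists, not_le] at h
  refine hw (Perm.ext fun x => ?_)
  obtain ⟨⟨i, k⟩, rfl⟩ := D.e.surjective x
  rw [D.spec, Perm.one_apply]
  obtain ⟨a, ha⟩ := D.pow i
  have h1 : D.len i = 1 := by
    cases a with
    | zero => simpa using ha
    | succ a =>
      have := h i
      rw [ha, pow_succ] at this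
      exact absurd this (not_lt.mpr (Nat.le_mul_of_pos_left p (pow_pos hp.pos a)))
  exact congrArg (fun k => D.e ⟨i, k⟩) (Fin.ext (by have := (nxt k).2; have := k.2; omega))

/-- Reorder the cycles. -/
def Decomp.reindex (D : Decomp p w) (σ : Perm (Fin D.c)) : Decomp p w where
  c := D.c
  len i := D.len (σ i)
  e := (Equiv.sigmaCongrLeft σ).trans D.e
  spec i k := D.spec (σ i) k
  pow i := D.pow (σ i)

/-- Cycles of lengths at most `p ^ a` fill every multiple of `p ^ a` up to their total. -/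
theorem exists_fill (hp : p.Prime) {ι : Type} [DecidableEq ι] (len : ι → ℕ) :
    ∀ (a : ℕ) (s : Finset ι), (∀ i ∈ s, ∃ b ≤ a, len i = p ^ b) → ∀ t : ℕ, t * p ^ a ≤ ∑ i ∈ s, len i →
      ∃ S ⊆ s, ∑ i ∈ S, len i = t * p ^ a := by
  intro a
  induction a with
  | zero =>
    intro s hs t ht
    have h1 : ∀ i ∈ s, len i = 1 := fun i hi => by
      obtain ⟨b, hb, e⟩ := hs i hi
      rw [e, Nat.le_zero.mp hb, pow_zero]
    rw [pow_zero, mul_one, Finset.sum_congr rfl h1, Finset.sum_const, smul_eq_mul, mul_one] at ht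
    obtain ⟨S, hS, hc⟩ := Finset.exists_subset_card_eq ht
    refine ⟨S, hS, ?_⟩
    rw [Finset.sum_congr rfl fun i hi => h1 i (hS hi), Finset.sum_const, smul_eq_mul, mul_one, hc, pow_zero, mul_one]
  | succ a ih =>
    intro s hs t
    induction t with
    | zero => intro _; exact ⟨∅, Finset.empty_subset _, by simp⟩
    | succ t iht =>
      intro ht
      obtain ⟨S, hS, hSs⟩ := iht (le_trans (Nat.mul_le_mul_right _ (Nat.le_succ t)) ht)
      have hrest : p ^ (a + 1) ≤ ∑ i ∈ s \ S, len i := by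
        have := Finset.sum_sdiff (f := len) hS
        rw [Nat.succ_mul] at ht
        omega
      obtain ⟨T, hT, hTs⟩ : ∃ T ⊆ s \ S, ∑ i ∈ T, len i = p ^ (a + 1) := by
        by_cases hb : ∃ i ∈ s \ S, len i = p ^ (a + 1)
        · obtain ⟨i, hi, e⟩ := hb
          exact ⟨{i}, Finset.singleton_subset_iff.mpr hi, by rw [Finset.sum_singleton, e]⟩
        · obtain ⟨T, hT, e⟩ := ih (s \ S) (fun i hi => by
            obtain ⟨b, hb', e⟩ := hs i (Finset.mem_sdiff.mp hi).1
            refine ⟨b, ?_, e⟩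
            by_contra hlt
            exact hb ⟨i, hi, by rw [e, show b = a + 1 by omega]⟩) p (by rwa [← pow_succ'])
          exact ⟨T, hT, e.trans (pow_succ' p a).symm⟩
      refine ⟨S ∪ T, Finset.union_subset hS (hT.trans Finset.sdiff_subset), ?_⟩
      rw [Finset.sum_union (Finset.disjoint_of_subset_right hT Finset.disjoint_sdiff), hSs, hTs, Nat.succ_mul]

/-- The permutation induced on some of the cycles. -/
theorem Decomp.exists_part (hp : p.Prime) (D : Decomp p w) (hw : IsP p w) (S : Finset (Fin D.c)) {L : ℕ}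
    (hS : ∑ i ∈ S, D.len i = L) (h1 : ∃ i ∈ S, 1 < D.len i) :
    ∃ (f : Fin L → Fin N) (W : Perm (Fin L)), Function.Injective f ∧ (∀ k, w (f k) = f (W k)) ∧ IsP p W ∧ W ≠ 1 := by
  classical
  let X := Σ i : ↥S, Fin (D.len i)
  have hcard : Fintype.card X = L := by
    rw [Fintype.card_sigma]
    simp only [Fintype.card_fin]
    rw [← hS, ← Finset.sum_coe_sort S]
  let t : Fin L ≃ X := (Fintype.equivFinOfCardEq hcard).symm
  let f : Fin L → Fin N := fun k => D.e ⟨(t k).1.1, (t k).2⟩
  have hf : Function.Injective f := fun a b h => by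
    have h' : (⟨(t a).1.1, (t a).2⟩ : Σ i, Fin (D.len i)) = ⟨(t b).1.1, (t b).2⟩ := D.e.injective h
    refine t.injective ?_
    exact (Function.Injective.sigma_map (β₂ := fun i => Fin (D.len i)) Subtype.val_injective fun i : ↥S =>
      (Function.injective_id : Function.Injective (id : Fin (D.len i.1) → Fin (D.len i.1)))) h'
  let g : Fin L → Fin L := fun k => t.symm ⟨(t k).1, nxt (t k).2⟩
  have hfg : ∀ k, w (f k) = f (g k) := fun k => by
    show w (D.e _) = D.e ⟨(t (g k)).1.1, (t (g k)).2⟩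
    rw [D.spec, show t (g k) = ⟨(t k).1, nxt (t k).2⟩ from apply_symm_apply _ _]
  have hg : Function.Bijective g :=
    Finite.injective_iff_bijective.mp fun a b h => hf (w.injective (by rw [hfg, hfg, h]))
  refine ⟨f, Equiv.ofBijective g hg, hf, hfg, ?_, fun h => ?_⟩
  · obtain ⟨K, hK⟩ := hw
    refine ⟨K, Perm.ext fun k => hf ?_⟩
    have hit : ∀ m : ℕ, f (((Equiv.ofBijective g hg) ^ m) k) = (w ^ m) (f k) := by
      intro m
      induction m with
      | zero => rfl
      | succ m ih => rw [pow_succ', pow_succ', Perm.mul_apply, Perm.mul_apply, ← ih]; exact (hfg _).symm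
    rw [hit, hK]
    rfl
  · obtain ⟨i, hi, h1i⟩ := h1
    let k := t.symm ⟨⟨i, hi⟩, ⟨0, Nat.lt_trans Nat.zero_lt_one h1i⟩⟩
    have e : g k = k := congrArg (fun q : Perm (Fin L) => q k) h
    have e' := hfg k
    rw [e] at e'
    have hk : f k = D.e ⟨i, ⟨0, by omega⟩⟩ := by
      show D.e ⟨(t k).1.1, (t k).2⟩ = _
      rw [show t k = _ from apply_symm_apply _ _]
    rw [hk, D.spec] at e'
    have := congrArg (fun x : Σ i, Fin (D.len i) => x.2.1) (D.e.injective e')
    simp only [nxt] at this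
    rw [Nat.mod_eq_of_lt (by omega)] at this
    omega

/-- Transfer from an invariant subset. -/
theorem lift_local {n L : ℕ} (u w : Perm (Fin n)) (f f' : Fin L → Fin n) (hf : Function.Injective f)
    (hf' : Function.Injective f') (U W : Perm (Fin L)) (hu : ∀ i, u (f i) = f (U i))
    (hw : ∀ i, w (f' i) = f' (W i)) (hloc : BothSigns p U W) :
    ∃ g : Perm (Fin n), Perm.sign g = 1 ∧ Good p u (g * w * g⁻¹) := by
  classical
  let e₀ : {x // ∃ i, f' i = x} ≃ {x // ∃ i, f i = x} :=
    (Equiv.ofInjective f' hf').symm.trans (Equiv.ofInjective f hf)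
  let e : Perm (Fin n) := e₀.extendSubtype
  have he : ∀ i, e (f' i) = f i := fun i => by
    show e₀.extendSubtype (f' i) = f i
    rw [Equiv.extendSubtype_apply_of_mem e₀ (f' i) ⟨i, rfl⟩]
    show ((Equiv.ofInjective f hf) ((Equiv.ofInjective f' hf').symm ⟨f' i, i, rfl⟩) : Fin n) = f i
    rw [Equiv.ofInjective_symm_apply]
    rfl
  obtain ⟨h, hsign, hnP, hns⟩ := hloc (Perm.sign e)
  let H : Perm (Fin n) := h.extendDomain (Equiv.ofInjective f hf)
  have hH : ∀ i, H (f i) = f (h i) := fun i => Perm.extendDomain_apply_image h (Equiv.ofInjective f hf) i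
  refine ⟨H * e, ?_, ?_⟩
  · rw [map_mul, Perm.sign_extendDomain, hsign, Int.units_mul_self]
  set V := h * W * h⁻¹ with hV
  have hv : ∀ i, (H * e * w * (H * e)⁻¹) (f i) = f (V i) := fun i => by
    obtain ⟨j, rfl⟩ := h.surjective i
    have e1 : (H * e)⁻¹ (f (h j)) = f' j := by
      rw [Perm.inv_eq_iff_eq, Perm.mul_apply, he, hH]
    rw [Perm.mul_apply, e1, Perm.mul_apply, Perm.mul_apply, hw, he, hH, hV]
    simp [Perm.mul_apply]
  let S : Subgroup (Perm (Fin n)) :=
    { carrier := {x | ∃ X : Perm (Fin L), ∀ i, x (f i) = f (X i)}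
      one_mem' := ⟨1, fun _ => rfl⟩
      mul_mem' := fun {a b} ⟨A, hA⟩ ⟨B, hB⟩ => ⟨A * B, fun i => by rw [Perm.mul_apply, hB, hA]; rfl⟩
      inv_mem' := fun {a} ⟨A, hA⟩ => ⟨A⁻¹, fun i => by rw [Perm.inv_eq_iff_eq, hA]; simp⟩ }
  have uniq : ∀ (x : Perm (Fin n)) (X Y : Perm (Fin L)), (∀ i, x (f i) = f (X i)) → (∀ i, x (f i) = f (Y i)) → X = Y :=
    fun x X Y hX hY => Perm.ext fun i => hf ((hX i).symm.trans (hY i))
  let R : ↥S →* Perm (Fin L) :=
    { toFun := fun x => x.2.choose
      map_one' := uniq 1 _ _ (1 : ↥S).2.choose_spec fun _ => rfl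
      map_mul' := fun a b => uniq (a * b : ↥S).1 _ _ (a * b).2.choose_spec fun i => by
        rw [Subgroup.coe_mul, Perm.mul_apply, b.2.choose_spec, a.2.choose_spec]; rfl }
  have hR : ∀ (x : ↥S) (X : Perm (Fin L)), (∀ i, x.1 (f i) = f (X i)) → R x = X := fun x X hX =>
    uniq x.1 _ _ x.2.choose_spec hX
  refine ⟨fun ⟨k, hk⟩ => hnP ⟨k, ?_⟩, fun hsol => hns ?_⟩
  · let x : ↥S := ⟨u, U, hu⟩ * ⟨_, V, hv⟩
    have hx : R x = U * V := by rw [map_mul, hR _ U hu, hR _ V hv]
    rw [← hx, ← map_pow, show x ^ p ^ k = 1 from Subtype.ext hk, map_one]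
  · have hle : Subgroup.closure ({u, H * e * w * (H * e)⁻¹} : Set (Perm (Fin n))) ≤ S := by
      rw [Subgroup.closure_le]
      rintro x (rfl | rfl)
      · exact ⟨U, hu⟩
      · exact ⟨V, hv⟩
    let ψ := R.comp (Subgroup.inclusion hle)
    haveI := hsol
    haveI : Group.IsSolvable ↥ψ.range := Group.isSolvable_of_surjective ψ.rangeRestrict_surjective
    have hsub : Subgroup.closure ({U, V} : Set (Perm (Fin L))) ≤ ψ.range := by
      rw [Subgroup.closure_le]
      rintro x (rfl | rfl)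
      · exact ⟨⟨u, Subgroup.subset_closure (Or.inl rfl)⟩, hR _ _ hu⟩
      · exact ⟨⟨_, Subgroup.subset_closure (Or.inr rfl)⟩, hR _ _ hv⟩
    exact Group.isSolvable_of_isSolvable_injective (Subgroup.inclusion_injective hsub)

end CfsgLib.AltPair
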