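import Cfsg.Agent.Lib.AltPair.Basic

/-!
The full cycle against an arbitrary element of prime power order: conjugators of both signs.
-/

set_option autoImplicit false
set_option linter.unusedSectionVars false

namespace CfsgLib.AltPair

open Equiv CfsgLib.AltLinear

variable {L : ℕ} {p : ℕ}

/-- The point with a given index modulo `L`. -/
def pt [NeZero L] (t : ℕ) : Fin L := ⟨t % L, Nat.mod_lt _ (NeZero.pos L)⟩

theorem rot_val (x : Fin L) : (finRotate L x).1 = (x.1 + 1) % L := by
  cases L with
  | zero => exact x.elim0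
  | succ m => rw [finRotate_succ_apply, Fin.val_add, Fin.val_one', Nat.add_mod_mod]

theorem rot_pt [NeZero L] (t : ℕ) : finRotate L (pt t) = (pt (t + 1) : Fin L) :=
  Fin.ext (by rw [rot_val]; simp [pt])

theorem rot_pow_pt [NeZero L] (s t : ℕ) : ((finRotate L) ^ s) (pt t) = (pt (t + s) : Fin L) := by
  induction s with
  | zero => rfl
  | succ s ih => rw [pow_succ', Perm.mul_apply, ih, rot_pt, Nat.add_assoc]

theorem pt_ne [NeZero L] {a b : ℕ} (hab : a ≤ b) (h : ¬ L ∣ (b - a)) : (pt a : Fin L) ≠ pt b := fun e => by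
  have e' : a % L = b % L := congrArg Fin.val e
  exact h (Nat.dvd_of_mod_eq_zero (Nat.sub_mod_eq_zero_of_mod_eq e'.symm))

theorem not_dvd_of_lt {a : ℕ} (h0 : 0 < a) (h : a < L) : ¬ L ∣ a := fun hd => by
  have := Nat.le_of_dvd h0 hd
  omega

theorem swap_comm_of_ne {a b c d : Fin L} (h1 : a ≠ c) (h2 : a ≠ d) (h3 : b ≠ c) (h4 : b ≠ d) :
    Commute (swap a b) (swap c d) := Perm.Disjoint.commute fun z => by
  by_cases ha : z = a
  · subst ha; exact Or.inr (swap_apply_of_ne_of_ne h1 h2)
  by_cases hb : z = b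
  · subst hb; exact Or.inr (swap_apply_of_ne_of_ne h3 h4)
  exact Or.inl (swap_apply_of_ne_of_ne ha hb)

/-- A transposition of two points at distance `d`. -/
def T [NeZero L] (d j : ℕ) : Perm (Fin L) := swap (pt j) (pt (j + d))

theorem T_sq [NeZero L] (d j : ℕ) : (T d j : Perm (Fin L)) * T d j = 1 := swap_mul_self _ _

theorem rot_T [NeZero L] (d j s : ℕ) :
    (finRotate L) ^ s * T d j * ((finRotate L) ^ s)⁻¹ = T d (j + s) := by
  rw [T, T, ← Equiv.swap_apply_apply, rot_pow_pt, rot_pow_pt, Nat.add_right_comm]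

theorem rot_T_one [NeZero L] (d j : ℕ) : finRotate L * T d j * (finRotate L)⁻¹ = T d (j + 1) := by
  simpa using rot_T (L := L) d j 1

/-- Moving a supported subgroup by the full cycle. -/
theorem fixOut_shift {G : Subgroup (Perm (Fin L))} {g : Perm (Fin L)} (hg : g ∈ G) {S : Finset (Fin L)}
    (h : fixOut S ≤ evens G) : fixOut (S.image g) ≤ evens G := by
  intro x hx
  have hs : Perm.sign (g⁻¹ * x.1 * g) = 1 := by
    rw [map_mul, map_mul, map_inv, x.2, mul_one, inv_mul_cancel]
  have hm : (⟨g⁻¹ * x.1 * g, hs⟩ : Alt L) ∈ fixOut S := fun z hz => by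
    show g⁻¹ (x.1 (g z)) = z
    rw [hx (g z) (fun hh => hz (by obtain ⟨y, hy, e⟩ := Finset.mem_image.mp hh; exact g.injective e ▸ hy))]
    simp
  have hG : g⁻¹ * x.1 * g ∈ G := h hm
  have : g * (g⁻¹ * x.1 * g) * g⁻¹ ∈ G := mul_mem (mul_mem hg hG) (inv_mem hg)
  show x.1 ∈ G
  rwa [show g * (g⁻¹ * x.1 * g) * g⁻¹ = x.1 by group] at this

/-- A transposition pair and the full cycle. -/
theorem not_solvable_pairs [NeZero L] {G : Subgroup (Perm (Fin L))} (hr : finRotate L ∈ G) {d z : ℕ}
    (hd : ∀ s, 1 ≤ s → s ≤ 4 → ¬ L ∣ s * d) (hE : T d (z + 1) * T d z ∈ G) : ¬ Group.IsSolvable ↥G := by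
  have hshift : ∀ t, T d (z + t + 1) * T d (z + t) ∈ G := fun t => by
    have e := mul_mem (mul_mem (pow_mem hr t) hE) (inv_mem (pow_mem hr t))
    rwa [← conj_mul, rot_T, rot_T, show z + 1 + t = z + t + 1 by omega] at e
  have hchain : ∀ t, T d (z + t) * T d z ∈ G := by
    intro t
    induction t with
    | zero => rw [add_zero, T_sq]; exact one_mem _
    | succ t ih =>
      have e : T d (z + (t + 1)) * T d z = (T d (z + t + 1) * T d (z + t) : Perm (Fin L)) * (T d (z + t) * T d z) := by
        rw [mul_assoc, ← mul_assoc (T d (z + t)) (T d (z + t)) (T d z), T_sq, one_mul, Nat.add_assoc]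
      rw [e]
      exact mul_mem (hshift t) ih
  have hne : ∀ s s', s < s' → s' ≤ 4 → (pt (z + s * d) : Fin L) ≠ pt (z + s' * d) := fun s s' h h' =>
    pt_ne (Nat.add_le_add_left (Nat.mul_le_mul_right d h.le) _) (by
      rw [Nat.add_sub_add_left, ← Nat.sub_mul]
      exact hd _ (by omega) (by omega))
  let A : Finset (Fin L) := {pt (z + 0 * d), pt (z + 1 * d), pt (z + 2 * d)}
  let B : Finset (Fin L) := {pt (z + 2 * d), pt (z + 3 * d), pt (z + 4 * d)}
  have hA : A.card = 3 := Finset.card_eq_three.mpr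
    ⟨_, _, _, hne 0 1 (by omega) (by omega), hne 0 2 (by omega) (by omega), hne 1 2 (by omega) (by omega), rfl⟩
  have hB : B.card = 3 := Finset.card_eq_three.mpr
    ⟨_, _, _, hne 2 3 (by omega) (by omega), hne 2 4 (by omega) (by omega), hne 3 4 (by omega) (by omega), rfl⟩
  have hAK : fixOut A ≤ evens G := by
    refine fixOut_le_of_three hA (hchain d) ?_ (fun x hx => ?_) ?_
    · rw [map_mul, T, T, Perm.sign_swap, Perm.sign_swap]
      · rfl
      · have := hne 0 1 (by omega) (by omega); rwa [Nat.zero_mul, Nat.add_zero, Nat.one_mul] at this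
      · have := hne 1 2 (by omega) (by omega); rwa [Nat.one_mul, Nat.two_mul, ← Nat.add_assoc] at this
    · simp only [A, Finset.mem_insert, Finset.mem_singleton, Nat.zero_mul, Nat.add_zero, Nat.one_mul, Nat.two_mul,
        not_or, ← Nat.add_assoc] at hx
      simp only [T, Perm.mul_apply]
      rw [swap_apply_of_ne_of_ne hx.1 hx.2.1, swap_apply_of_ne_of_ne hx.2.1 hx.2.2]
    · intro h
      have := congrArg (fun q : Perm (Fin L) => q (pt z)) h
      simp only [T, Perm.mul_apply, Perm.one_apply, swap_apply_left] at this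
      have h2 := hne 0 2 (by omega) (by omega)
      rw [Nat.zero_mul, Nat.add_zero, Nat.two_mul, ← Nat.add_assoc] at h2
      exact h2 this.symm
  have hBK : fixOut B ≤ evens G := by
    have := fixOut_shift (pow_mem hr (2 * d)) hAK
    rwa [show A.image (⇑((finRotate L) ^ (2 * d))) = B from ?_] at this
    simp only [A, B, Finset.image_insert, Finset.image_singleton, rot_pow_pt]
    rw [show z + 0 * d + 2 * d = z + 2 * d by ring, show z + 1 * d + 2 * d = z + 3 * d by ring,
      show z + 2 * d + 2 * d = z + 4 * d by ring]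
  refine not_solvable_of_five (S := A ∪ B) ?_
    (join_le hA.ge hB.ge (o := pt (z + 2 * d)) (by simp [A]) (by simp [B]) hAK hBK)
  have hAB : A ∩ B ⊆ {pt (z + 2 * d)} := by
    intro x hx
    simp only [A, B, Finset.mem_inter, Finset.mem_insert, Finset.mem_singleton] at hx ⊢
    rcases hx with ⟨rfl | rfl | rfl, h | h | h⟩ <;>
      first
        | rfl
        | exact absurd h (hne 0 2 (by omega) (by omega))
        | exact absurd h (hne 0 3 (by omega) (by omega))
        | exact absurd h (hne 0 4 (by omega) (by omega))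
        | exact absurd h (hne 1 2 (by omega) (by omega))
        | exact absurd h (hne 1 3 (by omega) (by omega))
        | exact absurd h (hne 1 4 (by omega) (by omega))
        | exact absurd h (hne 2 3 (by omega) (by omega))
        | exact absurd h (hne 2 4 (by omega) (by omega))
  have := Finset.card_union_add_card_inter A B
  have := Finset.card_le_card hAB
  rw [Finset.card_singleton] at this
  omega

theorem odd_ne [NeZero L] (h9 : 9 ≤ L) (hodd : Odd L) {a b : ℕ} (hab : a < b) (hb : b - a ≤ 16)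
    (he : 2 ∣ (b - a)) : (pt a : Fin L) ≠ pt b :=
  pt_ne hab.le fun hd => by
    obtain ⟨k, hk⟩ := hd
    obtain ⟨o, rfl⟩ := hodd
    have hk2 : k < 2 := by
      by_contra hlt
      have : (2 * o + 1) * 2 ≤ b - a := hk ▸ Nat.mul_le_mul_left _ (not_lt.mp hlt)
      omega
    interval_cases k <;> omega

/-- Two transposition pairs and the full cycle. -/
theorem not_solvable_quad [NeZero L] {G : Subgroup (Perm (Fin L))} (hr : finRotate L ∈ G) (h9 : 9 ≤ L)
    (hodd : Odd L) (hE : T 2 2 * T 2 6 * (T 2 1 * T 2 5) ∈ G) : ¬ Group.IsSolvable ↥G := by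
  have ne : ∀ a b : ℕ, a < b → b - a ≤ 16 → 2 ∣ (b - a) → (pt a : Fin L) ≠ pt b := fun a b => odd_ne h9 hodd
  have hE' : T 2 3 * T 2 7 * (T 2 2 * T 2 6) ∈ G := by
    have e := mul_mem (mul_mem hr hE) (inv_mem hr)
    rwa [← conj_mul, ← conj_mul, ← conj_mul, rot_T_one, rot_T_one, rot_T_one, rot_T_one] at e
  set F : Perm (Fin L) := T 2 3 * T 2 7 * (T 2 1 * T 2 5) with hF
  have c26 : Commute (T 2 2 : Perm (Fin L)) (T 2 6) := swap_comm_of_ne (ne 2 6 (by omega) (by omega) (by norm_num))
    (ne 2 8 (by omega) (by omega) (by norm_num)) (ne 4 6 (by omega) (by omega) (by norm_num))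
    (ne 4 8 (by omega) (by omega) (by norm_num))
  have hFG : F ∈ G := by
    have h : (T 2 2 * T 2 6 : Perm (Fin L)) * (T 2 2 * T 2 6) = 1 := by
      rw [c26.symm.mul_mul_mul_comm, T_sq, T_sq, one_mul]
    have e : F = T 2 3 * T 2 7 * (T 2 2 * T 2 6) * (T 2 2 * T 2 6 * (T 2 1 * T 2 5)) := by
      rw [mul_assoc, ← mul_assoc (T 2 2 * T 2 6) (T 2 2 * T 2 6), h, one_mul]
    rw [e]
    exact mul_mem hE' hE
  set F' := (finRotate L) ^ 8 * F * ((finRotate L) ^ 8)⁻¹ with hF'
  have hF'G : F' ∈ G := mul_mem (mul_mem (pow_mem hr 8) hFG) (inv_mem (pow_mem hr 8))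
  have hF'eq : F' = T 2 11 * T 2 15 * (T 2 9 * T 2 13) := by
    rw [hF', hF, ← conj_mul, ← conj_mul, ← conj_mul, rot_T, rot_T, rot_T, rot_T]
  have sF : ∀ z : Fin L, F z ≠ z → z = pt 1 ∨ z = pt 3 ∨ z = pt 5 ∨ z = pt 7 ∨ z = pt 9 := by
    intro z hz
    by_contra h
    simp only [not_or] at h
    obtain ⟨a, b, c, d, e⟩ := h
    exact hz (by simp only [hF, T, Perm.mul_apply]; rw [swap_apply_of_ne_of_ne c d, swap_apply_of_ne_of_ne a b,
      swap_apply_of_ne_of_ne d e, swap_apply_of_ne_of_ne b c])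
  have sF' : ∀ z : Fin L, F' z ≠ z → z = pt 9 ∨ z = pt 11 ∨ z = pt 13 ∨ z = pt 15 ∨ z = pt 17 := by
    intro z hz
    by_contra h
    simp only [not_or] at h
    obtain ⟨a, b, c, d, e⟩ := h
    exact hz (by simp only [hF'eq, T, Perm.mul_apply]; rw [swap_apply_of_ne_of_ne c d, swap_apply_of_ne_of_ne a b,
      swap_apply_of_ne_of_ne d e, swap_apply_of_ne_of_ne b c])
  have F9 : F (pt 9) = pt 7 := by
    simp only [hF, T, Perm.mul_apply]
    rw [swap_apply_of_ne_of_ne (ne 5 9 (by omega) (by omega) (by norm_num)).symm (ne 7 9 (by omega) (by omega) (by norm_num)).symm,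
      swap_apply_of_ne_of_ne (ne 1 9 (by omega) (by omega) (by norm_num)).symm (ne 3 9 (by omega) (by omega) (by norm_num)).symm,
      swap_apply_right,
      swap_apply_of_ne_of_ne (ne 3 7 (by omega) (by omega) (by norm_num)).symm (ne 5 7 (by omega) (by omega) (by norm_num)).symm]
  have F1 : F (pt 1) = pt 5 := by
    simp only [hF, T, Perm.mul_apply]
    rw [swap_apply_of_ne_of_ne (ne 1 5 (by omega) (by omega) (by norm_num)) (ne 1 7 (by omega) (by omega) (by norm_num)),
      swap_apply_left,
      swap_apply_of_ne_of_ne (ne 3 7 (by omega) (by omega) (by norm_num)) (ne 3 9 (by omega) (by omega) (by norm_num)),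
      swap_apply_left]
  have F'9 : F' (pt 9) = pt 13 := by
    have e : ((finRotate L) ^ 8)⁻¹ (pt 9) = (pt 1 : Fin L) := by rw [Perm.inv_eq_iff_eq, rot_pow_pt]
    rw [hF', Perm.mul_apply, Perm.mul_apply, e, F1, rot_pow_pt]
  have hone : ∀ z, F z ≠ z → F' z ≠ z → z = pt 9 := by
    intro z h1 h2
    rcases sF z h1 with rfl | rfl | rfl | rfl | rfl <;> rcases sF' _ h2 with h | h | h | h | h <;>
      first
        | rfl
        | exact absurd h (ne _ _ (by omega) (by omega) (by norm_num))
  obtain ⟨hsupp, hc1, hc3⟩ := commutator_one_point hone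
    (by rw [F9]; exact ne 7 9 (by omega) (by omega) (by norm_num))
    (by rw [F'9]; exact (ne 9 13 (by omega) (by omega) (by norm_num)).symm)
  rw [F9, F'9] at hsupp hc3
  have hA := fixOut_le_of_three hc3 (mul_mem (mul_mem (mul_mem hFG hF'G) (inv_mem hFG)) (inv_mem hF'G))
    (by simp only [map_mul, map_inv]; rw [mul_right_comm (Perm.sign F), mul_inv_cancel, one_mul, mul_inv_cancel]) hsupp hc1
  let B : Finset (Fin L) := {pt 15, pt 13, pt 19}
  have hB : fixOut B ≤ evens G := by
    have := fixOut_shift (pow_mem hr 6) hA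
    rwa [show ({pt 9, pt 7, pt 13} : Finset (Fin L)).image (⇑((finRotate L) ^ 6)) = B by
      simp only [B, Finset.image_insert, Finset.image_singleton, rot_pow_pt]] at this
  refine not_solvable_of_five (S := ({pt 9, pt 7, pt 13} : Finset (Fin L)) ∪ B) ?_
    (join_le hc3.ge ?_ (o := pt 13) (by simp) (by simp [B]) hA hB)
  · have hB3 : B.card = 3 := Finset.card_eq_three.mpr ⟨_, _, _, (ne 13 15 (by omega) (by omega) (by norm_num)).symm,
      ne 15 19 (by omega) (by omega) (by norm_num), ne 13 19 (by omega) (by omega) (by norm_num), rfl⟩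
    have hAB : ({pt 9, pt 7, pt 13} : Finset (Fin L)) ∩ B ⊆ {pt 13} := by
      intro x hx
      simp only [B, Finset.mem_inter, Finset.mem_insert, Finset.mem_singleton] at hx ⊢
      rcases hx with ⟨rfl | rfl | rfl, h | h | h⟩ <;>
        first
          | rfl
          | exact absurd h (ne _ _ (by omega) (by omega) (by norm_num))
    have := Finset.card_union_add_card_inter ({pt 9, pt 7, pt 13} : Finset (Fin L)) B
    have := Finset.card_le_card hAB
    rw [Finset.card_singleton] at this
    omega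
  · exact (Finset.card_eq_three.mpr ⟨_, _, _, (ne 13 15 (by omega) (by omega) (by norm_num)).symm,
      ne 15 19 (by omega) (by omega) (by norm_num), ne 13 19 (by omega) (by omega) (by norm_num), rfl⟩).ge

section Layout

variable {W : Perm (Fin L)} (D : Decomp p W)

/-- The total length of the first `m` cycles. -/
def startN (m : ℕ) (hm : m ≤ D.c) : ℕ := ∑ j : Fin m, D.len (Fin.castLE hm j)

/-- The first index of a cycle. -/
def start (i : Fin D.c) : ℕ := startN D i.1 i.2.le

theorem startN_succ (i : Fin D.c) : startN D (i.1 + 1) i.2 = start D i + D.len i := by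
  unfold start startN
  rw [Fin.sum_univ_castSucc]
  rfl

theorem startN_top : startN D D.c le_rfl = L := D.sum_len

/-- The positions of the cycles, one after another. -/
def pos : (Σ i, Fin (D.len i)) ≃ Fin L := finSigmaFinEquiv.trans (finCongr D.sum_len)

theorem pos_val (i : Fin D.c) (k : Fin (D.len i)) : (pos D ⟨i, k⟩).1 = start D i + k.1 := by
  simp only [pos, Equiv.trans_apply, finCongr_apply, Fin.val_cast, finSigmaFinEquiv_apply]
  rfl

/-- The conjugator arranging the cycles as descending arcs. -/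
def base : Perm (Fin L) :=
  D.e.symm.trans ((Equiv.sigmaCongrRight fun i => (Fin.revPerm : Perm (Fin (D.len i)))).trans (pos D))

theorem base_apply (i : Fin D.c) (k : Fin (D.len i)) : base D (D.e ⟨i, k⟩) = pos D ⟨i, k.rev⟩ := by
  simp [base]

/-- The descending arcs. -/
def arcs : Perm (Fin L) := base D * W * (base D)⁻¹

theorem arcs_apply (i : Fin D.c) (k : Fin (D.len i)) : arcs D (pos D ⟨i, k.rev⟩) = pos D ⟨i, (nxt k).rev⟩ := by
  have e : (base D)⁻¹ (pos D ⟨i, k.rev⟩) = D.e ⟨i, k⟩ := by rw [Perm.inv_eq_iff_eq, base_apply]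
  rw [arcs, Perm.mul_apply, Perm.mul_apply, e, D.spec, base_apply]

/-- The product of the full cycle and the arcs. -/
def skel : Perm (Fin L) := finRotate L * arcs D

theorem skel_inner (i : Fin D.c) (j : Fin (D.len i)) (hj : 0 < j.1) : skel D (pos D ⟨i, j⟩) = pos D ⟨i, j⟩ := by
  have h := arcs_apply D i j.rev
  rw [Fin.rev_rev] at h
  rw [skel, Perm.mul_apply, h]
  refine Fin.ext ?_
  rw [rot_val, pos_val, pos_val]
  have h1 : (nxt j.rev).rev.1 + 1 = j.1 := by
    have := j.2
    simp only [Fin.val_rev, nxt]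
    rw [Nat.mod_eq_of_lt (by omega)]
    omega
  rw [Nat.add_assoc, h1, ← pos_val, Nat.mod_eq_of_lt (pos D ⟨i, j⟩).2]

/-- The first point of an arc. -/
def head (hp : p.Prime) (i : Fin D.c) : Fin L := pos D ⟨i, ⟨0, D.len_pos hp i⟩⟩

theorem head_val (hp : p.Prime) (i : Fin D.c) : (head D hp i).1 = start D i := by
  rw [head, pos_val, Nat.add_zero]

theorem head_injective (hp : p.Prime) : Function.Injective (head D hp) := fun _ _ h =>
  congrArg Sigma.fst ((pos D).injective h)

theorem skel_head (hp : p.Prime) (i : Fin D.c) : skel D (head D hp i) = head D hp (nxt i) := by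
  have hl := D.len_pos hp i
  have h := arcs_apply D i (⟨0, hl⟩ : Fin (D.len i)).rev
  rw [Fin.rev_rev] at h
  rw [skel, Perm.mul_apply, head, h]
  refine Fin.ext ?_
  rw [rot_val, pos_val, head_val]
  have h1 : (nxt (⟨0, hl⟩ : Fin (D.len i)).rev).rev.1 + 1 = D.len i := by
    simp only [Fin.val_rev, nxt]
    rw [Nat.sub_add_cancel hl, Nat.mod_self]
    omega
  rw [Nat.add_assoc, h1, ← startN_succ]
  by_cases hi : i.1 + 1 < D.c
  · have e : (nxt i).1 = i.1 + 1 := Nat.mod_eq_of_lt hi
    have e2 : start D (nxt i) = startN D (i.1 + 1) i.2 := by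
      unfold start
      congr 1
    have hlt : startN D (i.1 + 1) i.2 < L := by rw [← e2, ← head_val D hp]; exact (head D hp _).2
    rw [Nat.mod_eq_of_lt hlt, e2]
  · have hc : i.1 + 1 = D.c := by have := i.2; omega
    have e : (nxt i).1 = 0 := by simp only [nxt, hc, Nat.mod_self]
    have e2 : start D (nxt i) = 0 := by
      unfold start startN
      have : IsEmpty (Fin (nxt i).1) := by rw [e]; infer_instance
      exact Finset.sum_of_isEmpty _
    have e3 : startN D (i.1 + 1) i.2 = L := by
      have h' : ∀ m (hm : m ≤ D.c), m = D.c → startN D m hm = L := fun m hm he => by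
        subst he
        exact startN_top D
      exact h' _ _ hc
    rw [e3, Nat.mod_self, e2]

theorem nxt_iter {c : ℕ} (j : ℕ) (i : Fin c) : ((nxt : Fin c → Fin c)^[j] i).1 = (i.1 + j) % c := by
  induction j with
  | zero => simp [Nat.mod_eq_of_lt i.2]
  | succ j ih =>
    rw [Function.iterate_succ_apply']
    show ((nxt^[j] i).1 + 1) % c = _
    rw [ih, Nat.mod_add_mod, Nat.add_assoc]

theorem skel_pow_head (hp : p.Prime) (j : ℕ) (i : Fin D.c) :
    (skel D ^ j) (head D hp i) = head D hp (nxt^[j] i) := by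
  induction j with
  | zero => rfl
  | succ j ih => rw [pow_succ', Perm.mul_apply, ih, skel_head, Function.iterate_succ_apply']

theorem skel_moves (hp : p.Prime) (z : Fin L) (h : skel D z ≠ z) : ∃ i, z = head D hp i := by
  obtain ⟨⟨i, j⟩, rfl⟩ := (pos D).surjective z
  rcases Nat.eq_zero_or_pos j.1 with h0 | h0
  · exact ⟨i, congrArg (fun q => pos D ⟨i, q⟩) (Fin.ext h0)⟩
  · exact absurd (skel_inner D i j h0) h

theorem skel_pow (hp : p.Prime) : skel D ^ D.c = 1 := by
  refine Perm.ext fun z => ?_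
  by_cases h : ∃ i, z = head D hp i
  · obtain ⟨i, rfl⟩ := h
    rw [skel_pow_head, Perm.one_apply]
    refine congrArg _ (Fin.ext ?_)
    rw [nxt_iter, Nat.add_mod_right, Nat.mod_eq_of_lt i.2]
  · have hz : skel D z = z := by_contra fun hh => h (skel_moves D hp z hh)
    rw [Perm.one_apply]
    exact Perm.pow_apply_eq_self_of_apply_eq_self hz _

theorem dvd_of_skel_pow (hp : p.Prime) (hc : 0 < D.c) {m : ℕ} (h : skel D ^ m = 1) : D.c ∣ m := by
  have e := skel_pow_head D hp m ⟨0, hc⟩
  rw [h, Perm.one_apply] at e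
  have := congrArg Fin.val (head_injective D hp e)
  rw [nxt_iter, Nat.zero_add] at this
  exact Nat.dvd_of_mod_eq_zero this.symm

theorem count_odd (hp : p.Prime) (hp3 : 3 ≤ p) (hL : Odd L) : Odd D.c := by
  rw [← D.sum_len, Finset.odd_sum_iff_odd_card_odd] at hL
  rw [Finset.filter_true_of_mem fun i _ => D.odd hp hp3 i] at hL
  simpa using hL

/-- The arcs conjugated by `τ`: the product is the skeleton times the commutator of the full cycle and `τ`. -/
theorem good_tau (hp : p.Prime) (hp3 : 3 ≤ p) (hL : Odd L) (τ : Perm (Fin L))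
    (hτ : ∀ i, τ (head D hp i) = head D hp i ∧ τ ((finRotate L)⁻¹ (head D hp i)) = (finRotate L)⁻¹ (head D hp i))
    (h2 : finRotate L * τ * (finRotate L)⁻¹ * τ⁻¹ * (finRotate L * τ * (finRotate L)⁻¹ * τ⁻¹) = 1)
    (h1 : finRotate L * τ * (finRotate L)⁻¹ * τ⁻¹ ≠ 1)
    (hns : ∀ G : Subgroup (Perm (Fin L)), finRotate L ∈ G → finRotate L * τ * (finRotate L)⁻¹ * τ⁻¹ ∈ G →
      ¬ Group.IsSolvable ↥G) :
    Good p (finRotate L) (τ * base D * W * (τ * base D)⁻¹) := by
  set R := finRotate L with hR
  set E := R * τ * R⁻¹ * τ⁻¹ with hE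
  set V := τ * base D * W * (τ * base D)⁻¹ with hV
  have hτi : ∀ x, τ x = x → τ⁻¹ x = x := fun x hx => by rw [Perm.inv_eq_iff_eq, hx]
  have hfixE : ∀ i, E (head D hp i) = head D hp i := fun i => by
    simp only [hE, Perm.mul_apply, hτi _ (hτ i).1]
    rw [(hτ i).2, ← Perm.mul_apply, mul_inv_cancel, Perm.one_apply]
  have hcomm : Commute (skel D) E := Perm.Disjoint.commute fun z => by
    by_cases h : skel D z = z
    · exact Or.inl h
    · obtain ⟨i, rfl⟩ := skel_moves D hp z h
      exact Or.inr (hfixE i)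
  have hcomm' : Commute (skel D) (R * τ * R⁻¹) := Perm.Disjoint.commute fun z => by
    by_cases h : skel D z = z
    · exact Or.inl h
    · obtain ⟨i, rfl⟩ := skel_moves D hp z h
      refine Or.inr ?_
      rw [Perm.mul_apply, Perm.mul_apply, (hτ i).2, ← Perm.mul_apply, mul_inv_cancel, Perm.one_apply]
  have hx : R * V = skel D * E := by
    calc R * V = R * τ * R⁻¹ * (R * (base D * W * (base D)⁻¹)) * τ⁻¹ := by rw [hV]; group
      _ = R * τ * R⁻¹ * skel D * τ⁻¹ := rfl
      _ = skel D * (R * τ * R⁻¹) * τ⁻¹ := by rw [hcomm'.eq]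
      _ = skel D * E := by rw [hE, mul_assoc]
  have hEc : (R * V) ^ D.c = E := by
    rw [hx, hcomm.mul_pow, skel_pow D hp, one_mul]
    obtain ⟨k, hk⟩ := count_odd D hp hp3 hL
    rw [hk, pow_succ, pow_mul, pow_two, h2, one_pow, one_mul]
  refine ⟨fun ⟨k, hk⟩ => h1 ?_, hns _ (Subgroup.subset_closure (Or.inl rfl)) (hEc ▸ pow_mem ?_ _)⟩
  · have hEk : E ^ p ^ k = 1 := by rw [← hEc, ← pow_mul, mul_comm, pow_mul, hk, one_pow]
    obtain ⟨j, hj⟩ := (hp.odd_of_ne_two (by omega)).pow (n := k)
    rwa [hj, pow_succ, pow_mul, pow_two, h2, one_pow, one_mul] at hEk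
  · exact mul_mem (Subgroup.subset_closure (Or.inl rfl)) (Subgroup.subset_closure (Or.inr rfl))

/-- A point inside an arc is neither a first point nor precedes one. -/
theorem inner_ne [NeZero L] (hp : p.Prime) (i : Fin D.c) {j : ℕ} (h1 : 1 ≤ j) (h2 : j + 2 ≤ D.len i) (i' : Fin D.c) :
    (pt (start D i + j) : Fin L) ≠ head D hp i' ∧ (pt (start D i + j) : Fin L) ≠ (finRotate L)⁻¹ (head D hp i') := by
  have hv : ∀ k (hk : k < D.len i), (pt (start D i + k) : Fin L) = pos D ⟨i, ⟨k, hk⟩⟩ := fun k hk => by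
    refine Fin.ext ?_
    rw [pos_val]
    exact Nat.mod_eq_of_lt (pos_val D i ⟨k, hk⟩ ▸ (pos D ⟨i, ⟨k, hk⟩⟩).2)
  constructor
  · intro h
    rw [hv j (by omega)] at h
    have e := (pos D).injective h
    cases congrArg Sigma.fst e
    have := congrArg (fun x : Σ i, Fin (D.len i) => x.2.1) e
    simp only at this
    omega
  · intro h
    rw [eq_comm, Perm.inv_eq_iff_eq, rot_pt, Nat.add_assoc, hv (j + 1) (by omega), eq_comm] at h
    have e := (pos D).injective h
    cases congrArg Sigma.fst e
    have := congrArg (fun x : Σ i, Fin (D.len i) => x.2.1) e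
    simp only at this
    omega

/-- A transposition of two inner points at distance `d`. -/
theorem good_swap [NeZero L] (hp : p.Prime) (hp3 : 3 ≤ p) (hL : Odd L) {z d : ℕ} (hd1 : 1 < d)
    (hd : ∀ s, 1 ≤ s → s ≤ 4 → ¬ L ∣ s * d) (hdL : d + 1 < L)
    (hz : ∀ i', (pt z : Fin L) ≠ head D hp i' ∧ (pt z : Fin L) ≠ (finRotate L)⁻¹ (head D hp i'))
    (hz' : ∀ i', (pt (z + d) : Fin L) ≠ head D hp i' ∧ (pt (z + d) : Fin L) ≠ (finRotate L)⁻¹ (head D hp i')) :
    Good p (finRotate L) (T d z * base D * W * (T d z * base D)⁻¹) := by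
  have hE : finRotate L * T d z * (finRotate L)⁻¹ * (T d z)⁻¹ = T d (z + 1) * T d z := by
    rw [rot_T_one]
    simp only [T, swap_inv]
  refine good_tau D hp hp3 hL _ (fun i => ?_) ?_ ?_ fun G hr hm => not_solvable_pairs hr hd (hE ▸ hm)
  · exact ⟨swap_apply_of_ne_of_ne (hz i).1.symm (hz' i).1.symm, swap_apply_of_ne_of_ne (hz i).2.symm (hz' i).2.symm⟩
  · rw [hE]
    have hc : Commute (T d (z + 1) : Perm (Fin L)) (T d z) := swap_comm_of_ne
      (pt_ne (by omega) (not_dvd_of_lt (by omega) (by omega))).symm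
      (pt_ne (by omega) (not_dvd_of_lt (by omega) (by omega)))
      (pt_ne (by omega) (not_dvd_of_lt (by omega) (by omega))).symm
      (pt_ne (by omega) (not_dvd_of_lt (by omega) (by omega))).symm
    rw [hc.symm.mul_mul_mul_comm, T_sq, T_sq, one_mul]
  · rw [hE]
    intro h
    have := congrArg (fun q : Perm (Fin L) => q (pt z)) h
    simp only [T, Perm.mul_apply, Perm.one_apply, swap_apply_left] at this
    rw [swap_apply_of_ne_of_ne (pt_ne (by omega) (not_dvd_of_lt (by omega) (by omega))).symm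
      (pt_ne (by omega) (not_dvd_of_lt (by omega) (by omega)))] at this
    exact (pt_ne (a := z) (b := z + d) (by omega) (not_dvd_of_lt (by omega) (by omega))) this.symm

end Layout

/-- Two cycles of one length give an odd element of the centraliser. -/
theorem exists_odd_centraliser {N : ℕ} {w : Perm (Fin N)} (hp : p.Prime) (hp3 : 3 ≤ p) (D : Decomp p w)
    {i j : Fin D.c} (hij : i ≠ j) (h : D.len i = D.len j) :
    ∃ c : Perm (Fin N), c * w = w * c ∧ Perm.sign c = -1 := by
  classical
  let f : Fin (D.len i) × Bool → Fin N := fun x => if x.2 then D.e ⟨j, Fin.cast h x.1⟩ else D.e ⟨i, x.1⟩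
  have hf : Function.Injective f := by
    rintro ⟨k, s⟩ ⟨l, t⟩ e
    cases s <;> cases t <;> simp [f] at e <;> first
      | exact absurd e.1 hij
      | exact absurd e.1.symm hij
      | simp_all [Fin.ext_iff]
  let s₀ : Perm (Fin (D.len i) × Bool) := Equiv.prodCongrRight fun _ => swap false true
  let c : Perm (Fin N) := s₀.extendDomain (Equiv.ofInjective f hf)
  have hc : ∀ x, c (f x) = f (s₀ x) := fun x => Perm.extendDomain_apply_image s₀ (Equiv.ofInjective f hf) x
  have hfw : ∀ k s, w (f (k, s)) = f (nxt k, s) := fun k s => by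
    cases s
    · exact D.spec i k
    · show w (D.e ⟨j, Fin.cast h k⟩) = D.e ⟨j, Fin.cast h (nxt k)⟩
      rw [D.spec]
      exact congrArg (fun q => D.e ⟨j, q⟩) (Fin.ext (by simp [nxt, h]))
  refine ⟨c, Perm.ext fun z => ?_, ?_⟩
  · rw [Perm.mul_apply, Perm.mul_apply]
    by_cases hz : z ∈ Set.range f
    · obtain ⟨⟨k, s⟩, rfl⟩ := hz
      rw [hfw, hc, hc]
      exact (hfw k (swap false true s)).symm
    · have hwz : w z ∉ Set.range f := by
        rintro ⟨⟨k, s⟩, hk⟩
        obtain ⟨⟨i', k'⟩, rfl⟩ := D.e.surjective z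
        rw [D.spec] at hk
        refine hz ?_
        cases s
        · have e := congrArg Sigma.fst (D.e.injective hk)
          dsimp only at e
          subst e
          exact ⟨(k', false), rfl⟩
        · have e := congrArg Sigma.fst (D.e.injective hk)
          dsimp only at e
          subst e
          exact ⟨(Fin.cast h.symm k', true), rfl⟩
      rw [Perm.extendDomain_apply_not_subtype _ _ hz, Perm.extendDomain_apply_not_subtype _ _ hwz]
  · rw [Perm.sign_extendDomain, Perm.sign_prodCongrRight, Finset.prod_const, Finset.card_univ, Fintype.card_fin,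
      Perm.sign_swap (by simp)]
    exact (D.odd hp hp3 i).neg_one_pow

/-- The cycles may be listed so that chosen ones come first. -/
theorem exists_order {c k : ℕ} (f : Fin k → Fin c) (hf : Function.Injective f) (hk : k ≤ c) :
    ∃ σ : Perm (Fin c), ∀ i, σ (Fin.castLE hk i) = f i := by
  classical
  let e : {x // ∃ i, Fin.castLE hk i = x} ≃ {x // ∃ i, f i = x} :=
    (Equiv.ofInjective _ (Fin.castLE_injective hk)).symm.trans (Equiv.ofInjective f hf)
  refine ⟨e.extendSubtype, fun i => ?_⟩
  rw [Equiv.extendSubtype_apply_of_mem e _ ⟨i, rfl⟩]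
  show ((Equiv.ofInjective f hf) ((Equiv.ofInjective _ (Fin.castLE_injective hk)).symm ⟨_, i, rfl⟩) : Fin c) = f i
  rw [Equiv.ofInjective_symm_apply]
  rfl

theorem isConj_of_three {N : ℕ} {x y : Perm (Fin N)} (hx : x ^ 3 = 1) (hy : y ^ 3 = 1) (hx1 : x ≠ 1) (hy1 : y ≠ 1)
    (h : x.support.card = y.support.card) : IsConj x y := by
  have ox : orderOf x = 3 := orderOf_eq_prime hx hx1
  have oy : orderOf y = 3 := orderOf_eq_prime hy hy1
  obtain ⟨a, ha⟩ := Perm.cycleType_prime_order (σ := x) (ox ▸ Nat.prime_three)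
  obtain ⟨b, hb⟩ := Perm.cycleType_prime_order (σ := y) (oy ▸ Nat.prime_three)
  rw [ox] at ha
  rw [oy] at hb
  rw [← Perm.sum_cycleType, ← Perm.sum_cycleType, ha, hb, Multiset.sum_replicate, Multiset.sum_replicate,
    smul_eq_mul, smul_eq_mul] at h
  rw [Perm.isConj_iff_cycleType_eq, ha, hb, show a = b by omega]

/-- A good pair with an odd centraliser settles the whole conjugacy class. -/
theorem bothSigns_of_conj {U V W c : Perm (Fin L)} (hV : Good p U V) (hc : c * V = V * c) (hs : Perm.sign c = -1)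
    (hW : IsConj V W) : BothSigns p U W := by
  obtain ⟨k, hk⟩ := isConj_iff.mp hW
  rw [← hk]
  exact bothSigns_conj (bothSigns_of_centraliser (h := 1) (by simpa using hV) hc hs)

theorem not_isP_of_prime {G : Type*} [Group G] {x : G} {q : ℕ} (hp : p.Prime) (hq : q.Prime) (hne : q ≠ p)
    (hx : x ^ q = 1) (hx1 : x ≠ 1) : ¬ IsP p x := fun ⟨k, hk⟩ => by
  have h := Nat.dvd_gcd (orderOf_dvd_of_pow_eq_one hx) (orderOf_dvd_of_pow_eq_one hk)
  rw [Nat.Coprime.gcd_eq_one (Nat.Coprime.pow_right k ((Nat.coprime_primes hq hp).mpr hne)), Nat.dvd_one,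
    orderOf_eq_one_iff] at h
  exact hx1 h

theorem good_nine : Good 3 (finRotate 9)
    (swap (0 : Fin 9) 1 * swap 1 2 * (swap 3 7 * swap 7 6) * (swap 4 8 * swap 8 5)) := by
  set u := finRotate 9 with hu
  set v : Perm (Fin 9) := swap 0 1 * swap 1 2 * (swap 3 7 * swap 7 6) * (swap 4 8 * swap 8 5) with hv
  have hxu : u ∈ Subgroup.closure ({u, v} : Set (Perm (Fin 9))) := Subgroup.subset_closure (Or.inl rfl)
  have hxv : v ∈ Subgroup.closure ({u, v} : Set (Perm (Fin 9))) := Subgroup.subset_closure (Or.inr rfl)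
  refine ⟨not_isP_of_prime (q := 7) Nat.prime_three (by norm_num) (by norm_num) ?_ ?_,
    not_solvable_of_commutators (A := u * v * u * v) (B := u * v * u * v * v) (C := u * u)
      (D := u * v * u * u * u * v * u * v * u * v) ?_ ?_ ?_ ?_ ?_ ?_ ?_⟩
  · rw [hu, hv]; decide +kernel
  · rw [hu, hv]; decide +kernel
  · exact mul_mem (mul_mem (mul_mem hxu hxv) hxu) hxv
  · exact mul_mem (mul_mem (mul_mem (mul_mem hxu hxv) hxu) hxv) hxv
  · exact mul_mem hxu hxu
  · exact mul_mem (mul_mem (mul_mem (mul_mem (mul_mem (mul_mem (mul_mem (mul_mem (mul_mem hxu hxv) hxu) hxu) hxu) hxv) hxu) hxv) hxu) hxv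
  · rw [hu, hv]; decide +kernel
  · rw [hu, hv]; decide +kernel
  · rw [hu]; decide +kernel

def SmallFacts (L : ℕ) [NeZero L] : Prop :=
    let R := finRotate L
    let τ : Perm (Fin L) := swap (pt 1) (pt 2) * swap (pt 2) (pt 3)
    let x := R * τ * R⁻¹ * τ⁻¹
    let S : Finset (Fin L) := {pt 1, pt 2, pt 4}
    x ^ 3 = 1 ∧ x ≠ 1 ∧ Perm.sign x = 1 ∧ Perm.sign τ = 1 ∧ (∀ z, z ∉ S → x z = z) ∧ S.card = 3 ∧
      (pt 4 : Fin L) ∈ S.image (⇑(R ^ 3)) ∧ (pt 4 : Fin L) ∈ S.image (⇑(R ^ 2)) ∧ (S.image (⇑(R ^ 3))).card = 3 ∧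
      (S.image (⇑(R ^ 2))).card = 3 ∧ 5 ≤ (S ∪ S.image (⇑(R ^ 3)) ∪ S.image (⇑(R ^ 2))).card

theorem small_five : SmallFacts 5 := by
  unfold SmallFacts
  decide +kernel

theorem small_seven : SmallFacts 7 := by
  unfold SmallFacts
  decide +kernel

theorem small_facts {L : ℕ} [NeZero L] (h : L ∈ ({5, 7} : Finset ℕ)) : SmallFacts L := by
  simp only [Finset.mem_insert, Finset.mem_singleton] at h
  rcases h with rfl | rfl
  · exact small_five
  · exact small_seven

theorem nine_centraliser :
    let c : Perm (Fin 9) := swap 0 3 * swap 1 7 * swap 2 6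
    let v : Perm (Fin 9) := swap 0 1 * swap 1 2 * (swap 3 7 * swap 7 6) * (swap 4 8 * swap 8 5)
    c * v = v * c ∧ Perm.sign c = -1 ∧ v ^ 3 = 1 ∧ v ≠ 1 ∧ v.support = Finset.univ := by
  decide +kernel

/-- The local statement. -/
theorem local_cycle (hp : p.Prime) (hp3 : 3 ≤ p) {a : ℕ} (hL : L = p ^ a) (h5 : 5 ≤ L) (W : Perm (Fin L))
    (hW : IsP p W) (hW1 : W ≠ 1) : BothSigns p (finRotate L) W := by
  classical
  haveI : NeZero L := ⟨by omega⟩
  have hLodd : Odd L := hL ▸ (hp.odd_of_ne_two (by omega)).pow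
  obtain ⟨D₀⟩ := exists_decomp hp W hW
  obtain ⟨i₀, -, hmax⟩ := Finset.exists_max_image (Finset.univ : Finset (Fin D₀.c)) D₀.len
    (by obtain ⟨i, -⟩ := D₀.exists_big hp hW1; exact ⟨i, Finset.mem_univ i⟩)
  have hbig : p ≤ D₀.len i₀ := by
    obtain ⟨i, hi⟩ := D₀.exists_big hp hW1
    exact hi.trans (hmax i (Finset.mem_univ i))
  have hc0 : 0 < D₀.c := i₀.pos
  by_cases h5m : 5 ≤ D₀.len i₀
  · let D := D₀.reindex (swap ⟨0, hc0⟩ i₀)
    have h0 : D.len ⟨0, hc0⟩ = D₀.len i₀ := by
      show D₀.len (swap ⟨0, hc0⟩ i₀ ⟨0, hc0⟩) = _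
      rw [swap_apply_left]
    have hs0 : start D ⟨0, hc0⟩ = 0 := Finset.sum_of_isEmpty (s := (Finset.univ : Finset (Fin 0)))
      (f := fun j => D.len (Fin.castLE (Nat.zero_le _) j))
    have hin : ∀ j, 1 ≤ j → j + 2 ≤ D.len ⟨0, hc0⟩ → ∀ i', (pt j : Fin L) ≠ head D hp i' ∧
        (pt j : Fin L) ≠ (finRotate L)⁻¹ (head D hp i') := fun j h1 h2 => by
      have := inner_ne D hp ⟨0, hc0⟩ h1 h2
      rwa [hs0, Nat.zero_add] at this
    have hd2 : ∀ s, 1 ≤ s → s ≤ 4 → ¬ L ∣ s * 2 := fun s h1 h4 hd => by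
      obtain ⟨k, hk⟩ := hd
      obtain ⟨o, ho⟩ := hLodd
      have hk2 : k < 2 := by
        by_contra hlt
        have := Nat.mul_le_mul_left L (not_lt.mp hlt)
        omega
      interval_cases k <;> omega
    have g1 := good_swap D hp hp3 hLodd (z := 1) (d := 2) (by omega) hd2 (by omega)
      (hin 1 le_rfl (by omega)) (hin 3 (by omega) (by omega))
    by_cases hdup : ∃ i j, i ≠ j ∧ D₀.len i = D₀.len j
    · obtain ⟨i, j, hij, he⟩ := hdup
      obtain ⟨c, hc, hs⟩ := exists_odd_centraliser hp hp3 D₀ hij he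
      exact bothSigns_of_centraliser g1 hc hs
    simp only [not_exists, not_and] at hdup
    by_cases h9 : 9 ≤ D₀.len i₀
    · have hm : D₀.len i₀ ≤ L := by
        have := D₀.sum_len
        have := Finset.single_le_sum (fun i _ => Nat.zero_le (D₀.len i)) (Finset.mem_univ i₀)
        omega
      have ne := fun a b : ℕ => odd_ne (L := L) (a := a) (b := b) (by omega) hLodd
      have hne : ∀ a b : ℕ, a < b → b ≤ 8 → (pt a : Fin L) ≠ pt b := fun a b h1 h2 =>
        pt_ne h1.le (not_dvd_of_lt (by omega) (by omega))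
      set τ : Perm (Fin L) := T 2 1 * T 2 5 with hτ
      have c15 : Commute (T 2 1 : Perm (Fin L)) (T 2 5) := swap_comm_of_ne (hne 1 5 (by omega) (by omega))
        (hne 1 7 (by omega) (by omega)) (hne 3 5 (by omega) (by omega)) (hne 3 7 (by omega) (by omega))
      have hE : finRotate L * τ * (finRotate L)⁻¹ * τ⁻¹ = T 2 2 * T 2 6 * (T 2 1 * T 2 5) := by
        rw [hτ, ← conj_mul, rot_T_one, rot_T_one, mul_inv_rev, T, T, T, T, swap_inv, swap_inv]
        exact congrArg _ c15.symm.eq
      have g2 : Good p (finRotate L) (τ * base D * W * (τ * base D)⁻¹) := by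
        refine good_tau D hp hp3 hLodd τ (fun i => ?_) ?_ ?_
          fun G hr hm' => not_solvable_quad hr (by omega) hLodd (hE ▸ hm')
        · have a1 := hin 1 le_rfl (by omega) i
          have a3 := hin 3 (by omega) (by omega) i
          have a5 := hin 5 (by omega) (by omega) i
          have a7 := hin 7 (by omega) (by omega) i
          constructor <;> simp only [hτ, T, Perm.mul_apply]
          · rw [swap_apply_of_ne_of_ne a5.1.symm a7.1.symm, swap_apply_of_ne_of_ne a1.1.symm a3.1.symm]
          · rw [swap_apply_of_ne_of_ne a5.2.symm a7.2.symm, swap_apply_of_ne_of_ne a1.2.symm a3.2.symm]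
        · rw [hE]
          have c26 : Commute (T 2 2 : Perm (Fin L)) (T 2 6) := swap_comm_of_ne (hne 2 6 (by omega) (by omega))
            (hne 2 8 (by omega) (by omega)) (hne 4 6 (by omega) (by omega)) (hne 4 8 (by omega) (by omega))
          have cx : ∀ a b : ℕ, (a = 2 ∨ a = 6) → (b = 1 ∨ b = 5) → Commute (T 2 a : Perm (Fin L)) (T 2 b) := by
            rintro a b (rfl | rfl) (rfl | rfl) <;>
              exact swap_comm_of_ne (by first | exact hne _ _ (by omega) (by omega) | exact (hne _ _ (by omega) (by omega)).symm)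
                (by first | exact hne _ _ (by omega) (by omega) | exact (hne _ _ (by omega) (by omega)).symm)
                (by first | exact hne _ _ (by omega) (by omega) | exact (hne _ _ (by omega) (by omega)).symm)
                (by first | exact hne _ _ (by omega) (by omega) | exact (hne _ _ (by omega) (by omega)).symm)
          have hc : Commute (T 2 2 * T 2 6 : Perm (Fin L)) (T 2 1 * T 2 5) :=
            ((cx 2 1 (Or.inl rfl) (Or.inl rfl)).mul_right (cx 2 5 (Or.inl rfl) (Or.inr rfl))).mul_left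
              ((cx 6 1 (Or.inr rfl) (Or.inl rfl)).mul_right (cx 6 5 (Or.inr rfl) (Or.inr rfl)))
          rw [hc.symm.mul_mul_mul_comm, c26.symm.mul_mul_mul_comm, c15.symm.mul_mul_mul_comm, T_sq, T_sq, T_sq, T_sq]
          simp
        · rw [hE]
          intro h
          have := congrArg (fun q : Perm (Fin L) => q (pt 1)) h
          simp only [T, Perm.mul_apply, Perm.one_apply] at this
          rw [swap_apply_of_ne_of_ne (hne 1 5 (by omega) (by omega)) (hne 1 7 (by omega) (by omega)), swap_apply_left,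
            swap_apply_of_ne_of_ne (hne 3 6 (by omega) (by omega)) (hne 3 8 (by omega) (by omega)),
            swap_apply_of_ne_of_ne (hne 2 3 (by omega) (by omega)).symm (hne 3 4 (by omega) (by omega))] at this
          exact hne 1 3 (by omega) (by omega) this.symm
      refine bothSigns_of_two g1 g2 ?_
      rw [map_mul, map_mul, hτ, map_mul, T, T, Perm.sign_swap (hne 1 3 (by omega) (by omega)),
        Perm.sign_swap (hne 5 7 (by omega) (by omega))]
      rcases Int.units_eq_one_or (Perm.sign (base D)) with h | h <;> rw [h] <;> decide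
    -- one cycle of length five or seven
    obtain ⟨b, hb⟩ := D₀.pow i₀
    have hb1 : b = 1 := by
      rcases b with _ | _ | b
      · rw [pow_zero] at hb; omega
      · rfl
      · have : p * p ≤ D₀.len i₀ := by
          rw [hb, pow_succ, pow_succ, mul_assoc]
          exact Nat.le_mul_of_pos_left _ (pow_pos hp.pos b)
        have := Nat.mul_le_mul hp3 hp3
        omega
    rw [hb1, pow_one] at hb
    have hones : ∀ i, i ≠ i₀ → D₀.len i = 1 := fun i hi => by
      obtain ⟨e, he⟩ := D₀.pow i
      rcases e with _ | e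
      · rw [he, pow_zero]
      · exfalso
        refine hdup i i₀ hi (le_antisymm (hmax i (Finset.mem_univ i)) ?_)
        rw [he, hb, pow_succ]
        exact Nat.le_mul_of_pos_left p (pow_pos hp.pos e)
    have hc1 : D₀.c = 1 := by
      have hle : ((Finset.univ : Finset (Fin D₀.c)).erase i₀).card ≤ 1 := Finset.card_le_one.mpr fun i hi j hj => by
        by_contra hne
        exact hdup i j hne ((hones i (Finset.ne_of_mem_erase hi)).trans (hones j (Finset.ne_of_mem_erase hj)).symm)
      rw [Finset.card_erase_of_mem (Finset.mem_univ _), Finset.card_univ, Fintype.card_fin] at hle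
      obtain ⟨k, hk⟩ := count_odd D₀ hp hp3 hLodd
      omega
    have hLp : L = p := by
      have e : ∑ i, D₀.len i = D₀.len i₀ := Finset.sum_eq_single i₀ (fun i _ hi => absurd (Fin.ext (by omega)) hi)
        (fun h => absurd (Finset.mem_univ _) h)
      have := D₀.sum_len
      omega
    have hL57 : L ∈ ({5, 7} : Finset ℕ) := by
      have : p ≤ 8 := by omega
      have : p = 5 ∨ p = 7 := by
        rcases (by omega : p = 5 ∨ p = 6 ∨ p = 7 ∨ p = 8) with h | h | h | h
        · exact Or.inl h
        · exact absurd hp (h ▸ by norm_num)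
        · exact Or.inr h
        · exact absurd hp (h ▸ by norm_num)
      simp only [Finset.mem_insert, Finset.mem_singleton]
      omega
    obtain ⟨hx3, hx1, hxs, hts, hxf, hS, o3, o2, hS3, hS2, hcard⟩ := small_facts hL57
    set τ : Perm (Fin L) := swap (pt 1) (pt 2) * swap (pt 2) (pt 3) with hτ
    set R := finRotate L with hR
    have hx : R * (τ * base D * W * (τ * base D)⁻¹) = R * τ * R⁻¹ * τ⁻¹ := by
      have hsk : skel D = 1 := by
        have := skel_pow D hp
        rwa [show D.c = 1 from hc1, pow_one] at this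
      have harcs : base D * W * (base D)⁻¹ = R⁻¹ := eq_inv_of_mul_eq_one_right hsk
      calc R * (τ * base D * W * (τ * base D)⁻¹) = R * τ * (base D * W * (base D)⁻¹) * τ⁻¹ := by group
        _ = R * τ * R⁻¹ * τ⁻¹ := by rw [harcs]
    have g3 : Good p R (τ * base D * W * (τ * base D)⁻¹) := by
      refine ⟨hx ▸ not_isP_of_prime hp Nat.prime_three (by omega) hx3 hx1, ?_⟩
      set G := Subgroup.closure ({R, τ * base D * W * (τ * base D)⁻¹} : Set (Perm (Fin L)))
      have hr : R ∈ G := Subgroup.subset_closure (Or.inl rfl)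
      have hA : fixOut _ ≤ evens G := fixOut_le_of_three hS
        (hx ▸ mul_mem hr (Subgroup.subset_closure (Or.inr rfl))) hxs hxf hx1
      have h1 := join_le hS.ge hS3.ge (o := pt 4) (by simp) o3 hA (fixOut_shift (pow_mem hr 3) hA)
      exact not_solvable_of_five hcard (join_le (hS.ge.trans (Finset.card_le_card Finset.subset_union_left)) hS2.ge
        (o := pt 4) (Finset.mem_union_left _ (by simp)) o2 h1 (fixOut_shift (pow_mem hr 2) hA))
    refine bothSigns_of_two g1 g3 ?_
    rw [map_mul, map_mul, hts, T, Perm.sign_swap (pt_ne (by omega) (not_dvd_of_lt (by omega) (by omega)))]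
    rcases Int.units_eq_one_or (Perm.sign (base D)) with h | h <;> rw [h] <;> decide
  -- cycles of lengths three and one
  have hp3' : p = 3 := by
    rcases (by omega : p = 3 ∨ p = 4) with h | h
    · exact h
    · exact absurd hp (h ▸ by norm_num)
  subst hp3'
  have hlen : ∀ i, D₀.len i = 1 ∨ D₀.len i = 3 := fun i => by
    obtain ⟨e, he⟩ := D₀.pow i
    have := hmax i (Finset.mem_univ i)
    rcases e with _ | _ | e
    · exact Or.inl (by rw [he, pow_zero])
    · exact Or.inr (by rw [he]; norm_num)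
    · have h9 : 9 ≤ D₀.len i := by
        rw [he, pow_succ, pow_succ, mul_assoc]
        exact Nat.le_mul_of_pos_left 9 (pow_pos (by norm_num) e)
      omega
  have hi₀ : D₀.len i₀ = 3 := by rcases hlen i₀ with h | h <;> omega
  have h9L : 9 ≤ L := by
    rcases a with _ | _ | a
    · rw [pow_zero] at hL; omega
    · rw [pow_succ, pow_zero, one_mul] at hL; omega
    · rw [hL, pow_succ, pow_succ, mul_assoc]
      exact Nat.le_mul_of_pos_left 9 (pow_pos (by norm_num) a)
  have hsumlen := D₀.sum_len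
  by_cases h2 : ∃ i₁, i₁ ≠ i₀ ∧ D₀.len i₁ = 3
  · obtain ⟨i₁, hne, hi₁⟩ := h2
    obtain ⟨c, hc, hs⟩ := exists_odd_centraliser hp hp3 D₀ hne (hi₁.trans hi₀.symm)
    by_cases h1 : ∃ i₂, D₀.len i₂ = 1
    · obtain ⟨i₂, hi₂⟩ := h1
      have n20 : i₂ ≠ i₀ := fun e => by rw [e] at hi₂; omega
      have n21 : i₂ ≠ i₁ := fun e => by rw [e] at hi₂; omega
      have hc3 : 3 ≤ D₀.c := by
        have hcard : ({i₀, i₂, i₁} : Finset (Fin D₀.c)).card = 3 :=
          Finset.card_eq_three.mpr ⟨_, _, _, n20.symm, hne.symm, n21, rfl⟩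
        have := Finset.card_le_univ ({i₀, i₂, i₁} : Finset (Fin D₀.c))
        rw [hcard, Fintype.card_fin] at this
        exact this
      obtain ⟨σ, hσ⟩ := exists_order ![i₀, i₂, i₁] (by
        intro x y; fin_cases x <;> fin_cases y <;> simp [n20, n20.symm, n21, n21.symm, hne, hne.symm]) hc3
      let D := D₀.reindex σ
      let z0 : Fin D.c := Fin.castLE hc3 (0 : Fin 3)
      let z1 : Fin D.c := Fin.castLE hc3 (1 : Fin 3)
      let z2 : Fin D.c := Fin.castLE hc3 (2 : Fin 3)
      have l0 : D.len z0 = 3 := (congrArg D₀.len (hσ 0)).trans hi₀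
      have l1 : D.len z1 = 1 := (congrArg D₀.len (hσ 1)).trans hi₂
      have l2 : D.len z2 = 3 := (congrArg D₀.len (hσ 2)).trans hi₁
      have s0 : start D z0 = 0 := Finset.sum_of_isEmpty (s := (Finset.univ : Finset (Fin 0)))
        (f := fun j => D.len (Fin.castLE (Nat.zero_le _) j))
      have s1 : start D z1 = start D z0 + D.len z0 := startN_succ D z0
      have s2 : start D z2 = start D z1 + D.len z1 := startN_succ D z1
      have a1 := inner_ne D hp z0 (j := 1) le_rfl (by omega)
      have a5 := inner_ne D hp z2 (j := 1) le_rfl (by omega)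
      rw [s0] at a1
      rw [s2, s1, s0, l0, l1] at a5
      refine bothSigns_of_centraliser (good_swap D hp hp3 hLodd (z := 1) (d := 4) (by omega) ?_ (by omega) a1 a5) hc hs
      intro s hs1 hs4 hd
      rcases a with _ | _ | a
      · rw [pow_zero] at hL; omega
      · rw [pow_succ, pow_zero, one_mul] at hL; omega
      · have : 9 ∣ s * 4 := dvd_trans ⟨3 ^ a, by rw [hL, pow_succ, pow_succ]; ring⟩ hd
        omega
    simp only [not_exists] at h1
    have hall : ∀ i, D₀.len i = 3 := fun i => (hlen i).resolve_left (h1 i)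
    rw [Finset.sum_congr rfl fun i _ => hall i, Finset.sum_const, Finset.card_univ, Fintype.card_fin, smul_eq_mul]
      at hsumlen
    by_cases h27 : 27 ≤ L
    · have hc2 : 2 ≤ D₀.c := by omega
      obtain ⟨σ, hσ⟩ := exists_order ![i₀, i₁] (by
        intro x y; fin_cases x <;> fin_cases y <;> simp [hne, hne.symm]) hc2
      let D := D₀.reindex σ
      let z0 : Fin D.c := Fin.castLE hc2 (0 : Fin 2)
      let z1 : Fin D.c := Fin.castLE hc2 (1 : Fin 2)
      have s0 : start D z0 = 0 := Finset.sum_of_isEmpty (s := (Finset.univ : Finset (Fin 0)))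
        (f := fun j => D.len (Fin.castLE (Nat.zero_le _) j))
      have s1 : start D z1 = start D z0 + D.len z0 := startN_succ D z0
      have l0 : D.len z0 = 3 := hall _
      have l1 : D.len z1 = 3 := hall _
      have a1 := inner_ne D hp z0 (j := 1) le_rfl (by omega)
      have a4 := inner_ne D hp z1 (j := 1) le_rfl (by omega)
      rw [s0] at a1
      rw [s1, s0, l0] at a4
      refine bothSigns_of_centraliser (good_swap D hp hp3 hLodd (z := 1) (d := 3) (by omega) ?_ (by omega) a1 a4) hc hs
      intro s hs1 hs4 hd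
      exact not_dvd_of_lt (by omega) (by omega) hd
    have hL9 : L = 9 := by
      rcases a with _ | _ | _ | a
      · rw [pow_zero] at hL; omega
      · rw [pow_succ, pow_zero, one_mul] at hL; omega
      · rw [hL]; norm_num
      · have : 27 ≤ L := by
          rw [hL, pow_succ, pow_succ, pow_succ, mul_assoc, mul_assoc]
          exact Nat.le_mul_of_pos_left 27 (pow_pos (by norm_num) a)
        omega
    subst hL9
    have hW3 : W ^ 3 = 1 := Perm.ext fun z => by
      obtain ⟨⟨i, k⟩, rfl⟩ := D₀.e.surjective z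
      rw [pow_succ, pow_succ, pow_one, Perm.mul_apply, Perm.mul_apply, D₀.spec, D₀.spec, D₀.spec, Perm.one_apply]
      refine congrArg (fun q => D₀.e ⟨i, q⟩) (Fin.ext ?_)
      have hk := k.2
      simp only [nxt, hall i] at hk ⊢
      omega
    have hsupp : W.support = Finset.univ := Finset.eq_univ_of_forall fun z => by
      rw [Perm.mem_support]
      obtain ⟨⟨i, k⟩, rfl⟩ := D₀.e.surjective z
      rw [D₀.spec]
      intro e
      have := congrArg (fun x : Σ i, Fin (D₀.len i) => x.2.1) (D₀.e.injective e)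
      have hk := k.2
      simp only [nxt, hall i] at hk this
      omega
    obtain ⟨n1, n2, n3, n4, n5⟩ := nine_centraliser
    refine bothSigns_of_conj good_nine n1 n2 (isConj_of_three n3 hW3 n4 hW1 ?_)
    rw [hsupp, n5]
  -- one three-cycle
  simp only [not_exists, not_and] at h2
  have hones : ∀ i, i ≠ i₀ → D₀.len i = 1 := fun i hi => (hlen i).resolve_right (h2 i hi)
  have hL2 : D₀.c + 2 = L := by
    rw [← Finset.add_sum_erase _ _ (Finset.mem_univ i₀), hi₀,
      Finset.sum_congr rfl fun i hi => hones i (Finset.ne_of_mem_erase hi), Finset.sum_const,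
      Finset.card_erase_of_mem (Finset.mem_univ _), Finset.card_univ, Fintype.card_fin, smul_eq_mul, mul_one] at hsumlen
    omega
  obtain ⟨i, hi, j, hj, hij⟩ := Finset.one_lt_card.mp (show 1 < ((Finset.univ : Finset (Fin D₀.c)).erase i₀).card by
    rw [Finset.card_erase_of_mem (Finset.mem_univ _), Finset.card_univ, Fintype.card_fin]; omega)
  obtain ⟨c, hc, hs⟩ := exists_odd_centraliser hp hp3 D₀ hij
    ((hones i (Finset.ne_of_mem_erase hi)).trans (hones j (Finset.ne_of_mem_erase hj)).symm)
  let D := D₀.reindex (swap ⟨0, hc0⟩ i₀)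
  refine bothSigns_of_centraliser (h := base D) ⟨fun ⟨k, hk⟩ => ?_, ?_⟩ hc hs
  · obtain ⟨b, -, hb⟩ := (Nat.dvd_prime_pow hp).mp (dvd_of_skel_pow D hp hc0 hk)
    have hb' : D₀.c = 3 ^ b := hb
    rcases b with _ | b
    · rw [pow_zero] at hb'; omega
    · rcases a with _ | a
      · rw [pow_zero] at hL; omega
      · rw [pow_succ] at hb' hL
        omega
  set G := Subgroup.closure ({finRotate L, base D * W * (base D)⁻¹} : Set (Perm (Fin L)))
  have hr : finRotate L ∈ G := Subgroup.subset_closure (Or.inl rfl)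
  have harc : arcs D ∈ G := Subgroup.subset_closure (Or.inr rfl)
  have hs0 : start D ⟨0, hc0⟩ = 0 := Finset.sum_of_isEmpty (s := (Finset.univ : Finset (Fin 0)))
    (f := fun j => D.len (Fin.castLE (Nat.zero_le _) j))
  have h0 : D.len ⟨0, hc0⟩ = 3 := by
    show D₀.len (swap ⟨0, hc0⟩ i₀ ⟨0, hc0⟩) = 3
    rw [swap_apply_left, hi₀]
  let A : Finset (Fin L) := {pt 0, pt 1, pt 2}
  have hA3 : A.card = 3 := Finset.card_eq_three.mpr ⟨_, _, _, pt_ne (by omega) (not_dvd_of_lt (by omega) (by omega)),
    pt_ne (by omega) (not_dvd_of_lt (by omega) (by omega)), pt_ne (by omega) (not_dvd_of_lt (by omega) (by omega)), rfl⟩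
  have hout : ∀ z, z ∉ A → arcs D z = z := by
    intro z hz
    obtain ⟨⟨i, k⟩, rfl⟩ := (pos D).surjective z
    by_cases hi : i = ⟨0, hc0⟩
    · subst hi
      have hv : pos D ⟨⟨0, hc0⟩, k⟩ = pt k.1 := Fin.ext (by
        rw [pos_val, hs0, Nat.zero_add]
        have hk := k.2
        exact (Nat.mod_eq_of_lt (by omega)).symm)
      rw [hv] at hz
      have hk := k.2
      simp only [h0] at hk
      rcases (by omega : k.1 = 0 ∨ k.1 = 1 ∨ k.1 = 2) with h | h | h <;> exact absurd (by simp [A, h]) hz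
    · have hl : D.len i = 1 := hones _ fun e => hi (by
        exact (swap (⟨0, hc0⟩ : Fin D₀.c) i₀).injective (e.trans (swap_apply_left _ _).symm))
      have := arcs_apply D i k.rev
      rw [Fin.rev_rev] at this
      rw [this]
      exact congrArg (fun q => pos D ⟨i, q⟩) (Fin.ext (by
        have h1 := (nxt k.rev).rev.2
        have h2 := k.2
        omega))
  have hne1 : arcs D ≠ 1 := fun e => hW1 (by
    have e' : base D * W * (base D)⁻¹ = 1 := e
    rw [mul_inv_eq_one] at e'
    exact mul_eq_left.mp e')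
  have hsign : Perm.sign (arcs D) = 1 := by
    obtain ⟨k, hk⟩ := hW
    rw [arcs, map_mul, map_mul, map_inv, mul_right_comm, mul_inv_cancel, one_mul]
    obtain ⟨m, hm⟩ := (hp.odd_of_ne_two (by omega)).pow (n := k)
    have := congrArg Perm.sign hk
    rwa [map_pow, map_one, hm, pow_succ, pow_mul, pow_two, Int.units_mul_self, one_pow, one_mul] at this
  have hA := fixOut_le_of_three hA3 harc hsign hout hne1
  have hB := fixOut_shift (pow_mem hr 2) hA
  have hB3 : (A.image (⇑((finRotate L) ^ 2))).card = 3 := by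
    rw [Finset.card_image_of_injective _ (Equiv.injective _), hA3]
  refine not_solvable_of_five (S := A ∪ A.image (⇑((finRotate L) ^ 2))) ?_ (join_le hA3.ge hB3.ge (o := pt 2) (by simp [A])
    (Finset.mem_image.mpr ⟨pt 0, by simp [A], rot_pow_pt 2 0⟩) hA hB)
  have hAB : A ∩ A.image (⇑((finRotate L) ^ 2)) ⊆ {pt 2} := by
    intro x hx
    simp only [A, Finset.image_insert, Finset.image_singleton, rot_pow_pt, Finset.mem_inter, Finset.mem_insert,
      Finset.mem_singleton] at hx ⊢
    have ne : ∀ u v : ℕ, u < v → v ≤ 4 → (pt u : Fin L) ≠ pt v := fun u v h1 h2 =>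
      pt_ne h1.le (not_dvd_of_lt (by omega) (by omega))
    rcases hx with ⟨rfl | rfl | rfl, h | h | h⟩ <;>
      first
        | rfl
        | exact absurd h (ne _ _ (by omega) (by omega))
  have := Finset.card_union_add_card_inter A (A.image (⇑((finRotate L) ^ 2)))
  have := Finset.card_le_card hAB
  rw [Finset.card_singleton] at this
  omega

end CfsgLib.AltPair
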