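import Cfsg.Agent.Lib.AltPair.Local

/-!
Elements of order three on five or six points.
-/

set_option autoImplicit false
set_option linter.unusedSectionVars false

namespace CfsgLib.AltPair

open Equiv CfsgLib.AltLinear

theorem not_isP_of_four {G : Type*} [Group G] {x : G} (hx : x ^ 4 = 1) (hx1 : x ^ 2 ≠ 1) : ¬ IsP 3 x :=
  fun ⟨k, hk⟩ => not_isP_of_prime (q := 2) (x := x ^ 2) Nat.prime_three Nat.prime_two (by norm_num)
    (by rw [← pow_mul]; exact hx) hx1 ⟨k, by rw [← pow_mul, mul_comm, pow_mul, hk, one_pow]⟩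

theorem good_five_of {N : ℕ} (u v : Perm (Fin N)) (h5 : (u * v) ^ 5 = 1) (h1 : u * v ≠ 1) (hu : u ≠ 1)
    (e₁ : u * u * (v * u * u * v * v * u * v) * (u * u)⁻¹ * (v * u * u * v * v * u * v)⁻¹ = u)
    (e₂ : v * v * (u * v * u * u * v * v * u) * (v * v)⁻¹ * (u * v * u * u * v * v * u)⁻¹ = v) : Good 3 u v := by
  have hxu : u ∈ Subgroup.closure ({u, v} : Set (Perm (Fin N))) := Subgroup.subset_closure (Or.inl rfl)
  have hxv : v ∈ Subgroup.closure ({u, v} : Set (Perm (Fin N))) := Subgroup.subset_closure (Or.inr rfl)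
  refine ⟨not_isP_of_prime (q := 5) Nat.prime_three (by norm_num) (by norm_num) h5 h1,
    not_solvable_of_commutators ?_ ?_ ?_ ?_ e₁ e₂ hu⟩
  all_goals repeat' first | exact hxu | exact hxv | apply mul_mem

theorem good_four_of {N : ℕ} (u v : Perm (Fin N)) (h4 : (u * v) ^ 4 = 1) (h2 : (u * v) ^ 2 ≠ 1) (hu : u ≠ 1)
    (e₁ : u * u * (v * u * u * v * u * v * u * u * v * v) * (u * u)⁻¹ *
      (v * u * u * v * u * v * u * u * v * v)⁻¹ = u)
    (e₂ : v * v * (u * u * v * v * u * v * u * v * v * u) * (v * v)⁻¹ *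
      (u * u * v * v * u * v * u * v * v * u)⁻¹ = v) : Good 3 u v := by
  have hxu : u ∈ Subgroup.closure ({u, v} : Set (Perm (Fin N))) := Subgroup.subset_closure (Or.inl rfl)
  have hxv : v ∈ Subgroup.closure ({u, v} : Set (Perm (Fin N))) := Subgroup.subset_closure (Or.inr rfl)
  refine ⟨not_isP_of_four h4 h2, not_solvable_of_commutators ?_ ?_ ?_ ?_ e₁ e₂ hu⟩
  all_goals repeat' first | exact hxu | exact hxv | apply mul_mem

theorem cube_of_isP {N : ℕ} (hN : N ≤ 8) {W : Perm (Fin N)} (hW : IsP 3 W) (hW1 : W ≠ 1) :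
    W ^ 3 = 1 ∧ (W.support.card = 3 ∨ W.support.card = 6) := by
  obtain ⟨D⟩ := exists_decomp Nat.prime_three W hW
  have hlen : ∀ i, D.len i = 1 ∨ D.len i = 3 := fun i => by
    obtain ⟨e, he⟩ := D.pow i
    have := D.sum_len
    have := Finset.single_le_sum (fun i _ => Nat.zero_le (D.len i)) (Finset.mem_univ i)
    rcases e with _ | _ | e
    · exact Or.inl (by rw [he, pow_zero])
    · exact Or.inr (by rw [he]; norm_num)
    · have h9 : 9 ≤ D.len i := by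
        rw [he, pow_succ, pow_succ, mul_assoc]
        exact Nat.le_mul_of_pos_left 9 (pow_pos (by norm_num) e)
      omega
  have hW3 : W ^ 3 = 1 := Perm.ext fun z => by
    obtain ⟨⟨i, k⟩, rfl⟩ := D.e.surjective z
    rw [pow_succ, pow_succ, pow_one, Perm.mul_apply, Perm.mul_apply, D.spec, D.spec, D.spec, Perm.one_apply]
    refine congrArg (fun q => D.e ⟨i, q⟩) (Fin.ext ?_)
    have hk := k.2
    rcases hlen i with h | h <;> simp only [nxt, h] at hk ⊢ <;> omega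
  have ox : orderOf W = 3 := orderOf_eq_prime hW3 hW1
  obtain ⟨a, ha⟩ := Perm.cycleType_prime_order (σ := W) (ox ▸ Nat.prime_three)
  rw [ox] at ha
  have hs := Perm.sum_cycleType W
  rw [ha, Multiset.sum_replicate, smul_eq_mul] at hs
  have := W.support.card_le_univ
  rw [Fintype.card_fin] at this
  exact ⟨hW3, by omega⟩

theorem six_facts :
    let u₁ : Perm (Fin 6) := swap 0 1 * swap 1 2
    let u₂ : Perm (Fin 6) := swap 0 1 * swap 1 2 * (swap 3 4 * swap 4 5)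
    let v₁₁ : Perm (Fin 6) := swap 0 3 * swap 3 4
    let v₁₂ : Perm (Fin 6) := swap 0 1 * swap 1 3 * (swap 2 4 * swap 4 5)
    let v₂₁ : Perm (Fin 6) := swap 0 1 * swap 1 3
    let v₂₂ : Perm (Fin 6) := swap 0 1 * swap 1 3 * (swap 2 5 * swap 5 4)
    (u₁ ^ 3 = 1 ∧ u₁ ≠ 1 ∧ u₁.support.card = 3) ∧ (u₂ ^ 3 = 1 ∧ u₂ ≠ 1 ∧ u₂.support.card = 6) ∧
    (v₁₁ ^ 3 = 1 ∧ v₁₁ ≠ 1 ∧ v₁₁.support.card = 3) ∧ (v₁₂ ^ 3 = 1 ∧ v₁₂ ≠ 1 ∧ v₁₂.support.card = 6) ∧
    (v₂₁ ^ 3 = 1 ∧ v₂₁ ≠ 1 ∧ v₂₁.support.card = 3) ∧ (v₂₂ ^ 3 = 1 ∧ v₂₂ ≠ 1 ∧ v₂₂.support.card = 6) ∧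
    (swap 1 2 * v₁₁ = v₁₁ * swap 1 2) ∧ (swap 2 4 * v₂₁ = v₂₁ * swap 2 4) ∧
    (swap 0 2 * swap 1 4 * swap 3 5 * v₁₂ = v₁₂ * (swap 0 2 * swap 1 4 * swap 3 5)) ∧
    (swap 0 2 * swap 1 5 * swap 3 4 * v₂₂ = v₂₂ * (swap 0 2 * swap 1 5 * swap 3 4)) ∧
    Perm.sign (swap 0 2 * swap 1 4 * swap 3 5 : Perm (Fin 6)) = -1 ∧
    Perm.sign (swap 0 2 * swap 1 5 * swap 3 4 : Perm (Fin 6)) = -1 := by
  decide +kernel

theorem five_facts :
    let u : Perm (Fin 5) := swap 0 1 * swap 1 2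
    let v : Perm (Fin 5) := swap 0 3 * swap 3 4
    (u ^ 3 = 1 ∧ u ≠ 1 ∧ u.support.card = 3) ∧ (v ^ 3 = 1 ∧ v ≠ 1 ∧ v.support.card = 3) ∧
    (swap 1 2 * v = v * swap 1 2) := by
  decide +kernel

theorem good_five : Good 3 (swap (0 : Fin 5) 1 * swap 1 2) (swap (0 : Fin 5) 3 * swap 3 4) :=
  good_five_of _ _ (by decide +kernel) (by decide +kernel) (by decide +kernel) (by decide +kernel) (by decide +kernel)

theorem good_six_one_one : Good 3 (swap (0 : Fin 6) 1 * swap 1 2) (swap (0 : Fin 6) 3 * swap 3 4) :=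
  good_five_of _ _ (by decide +kernel) (by decide +kernel) (by decide +kernel) (by decide +kernel) (by decide +kernel)

theorem good_six_one_two :
    Good 3 (swap (0 : Fin 6) 1 * swap 1 2) (swap (0 : Fin 6) 1 * swap 1 3 * (swap 2 4 * swap 4 5)) :=
  good_four_of _ _ (by decide +kernel) (by decide +kernel) (by decide +kernel) (by decide +kernel) (by decide +kernel)

theorem good_six_two_one :
    Good 3 (swap (0 : Fin 6) 1 * swap 1 2 * (swap 3 4 * swap 4 5)) (swap (0 : Fin 6) 1 * swap 1 3) :=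
  good_four_of _ _ (by decide +kernel) (by decide +kernel) (by decide +kernel) (by decide +kernel) (by decide +kernel)

theorem good_six_two_two : Good 3 (swap (0 : Fin 6) 1 * swap 1 2 * (swap 3 4 * swap 4 5))
    (swap (0 : Fin 6) 1 * swap 1 3 * (swap 2 5 * swap 5 4)) :=
  good_five_of _ _ (by decide +kernel) (by decide +kernel) (by decide +kernel) (by decide +kernel) (by decide +kernel)

/-- Five points. -/
theorem local_five {U W : Perm (Fin 5)} (hU : IsP 3 U) (hU1 : U ≠ 1) (hW : IsP 3 W) (hW1 : W ≠ 1) :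
    ∃ k U₀ : Perm (Fin 5), k * U₀ * k⁻¹ = U ∧ BothSigns 3 U₀ W := by
  obtain ⟨hU3, hUs⟩ := cube_of_isP (by omega) hU hU1
  obtain ⟨hW3, hWs⟩ := cube_of_isP (by omega) hW hW1
  obtain ⟨⟨u3, u1, us⟩, ⟨v3, v1, vs⟩, hc⟩ := five_facts
  have := U.support.card_le_univ
  have := W.support.card_le_univ
  rw [Fintype.card_fin] at *
  obtain ⟨k, hk⟩ := isConj_iff.mp (isConj_of_three u3 hU3 u1 hU1 (by omega))
  exact ⟨k, _, hk, bothSigns_of_conj good_five hc (Perm.sign_swap (by decide))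
    (isConj_of_three v3 hW3 v1 hW1 (by omega))⟩

/-- Six points. -/
theorem local_six {U W : Perm (Fin 6)} (hU : IsP 3 U) (hU1 : U ≠ 1) (hW : IsP 3 W) (hW1 : W ≠ 1) :
    ∃ k U₀ : Perm (Fin 6), k * U₀ * k⁻¹ = U ∧ BothSigns 3 U₀ W := by
  obtain ⟨hU3, hUs⟩ := cube_of_isP (by omega) hU hU1
  obtain ⟨hW3, hWs⟩ := cube_of_isP (by omega) hW hW1
  obtain ⟨⟨a3, a1, as⟩, ⟨b3, b1, bs⟩, ⟨c3, c1, cs⟩, ⟨d3, d1, ds⟩, ⟨e3, e1, es⟩, ⟨f3, f1, fs⟩, h11, h21, h12, h22,
    s12, s22⟩ := six_facts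
  rcases hUs with hU' | hU'
  · obtain ⟨k, hk⟩ := isConj_iff.mp (isConj_of_three a3 hU3 a1 hU1 (by omega))
    refine ⟨k, _, hk, ?_⟩
    rcases hWs with hW' | hW'
    · exact bothSigns_of_conj good_six_one_one h11 (Perm.sign_swap (by decide))
        (isConj_of_three c3 hW3 c1 hW1 (by omega))
    · exact bothSigns_of_conj good_six_one_two h12 s12 (isConj_of_three d3 hW3 d1 hW1 (by omega))
  · obtain ⟨k, hk⟩ := isConj_iff.mp (isConj_of_three b3 hU3 b1 hU1 (by omega))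
    refine ⟨k, _, hk, ?_⟩
    rcases hWs with hW' | hW'
    · exact bothSigns_of_conj good_six_two_one h21 (Perm.sign_swap (by decide))
        (isConj_of_three e3 hW3 e1 hW1 (by omega))
    · exact bothSigns_of_conj good_six_two_two h22 s22 (isConj_of_three f3 hW3 f1 hW1 (by omega))

/-- A pair with conjugable first entry. -/
theorem lift_conj {n L : ℕ} {p : ℕ} (u w : Perm (Fin n)) (f f' : Fin L → Fin n) (hf : Function.Injective f)
    (hf' : Function.Injective f') (U W k U₀ : Perm (Fin L)) (hu : ∀ i, u (f i) = f (U i))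
    (hw : ∀ i, w (f' i) = f' (W i)) (hk : k * U₀ * k⁻¹ = U) (h : BothSigns p U₀ W) :
    ∃ g : Perm (Fin n), Perm.sign g = 1 ∧ Good p u (g * w * g⁻¹) := by
  refine lift_local u w (f ∘ k) f' (hf.comp k.injective) hf' U₀ W (fun i => ?_) hw h
  show u (f (k i)) = f (k (U₀ i))
  rw [hu, ← hk]
  simp [Perm.mul_apply]

/-- The statement for permutations, the first element having the longer cycle. -/
theorem exists_good_of_le {n p : ℕ} (hn : 5 ≤ n) (hp : p.Prime) (hp3 : 3 ≤ p) {u w : Perm (Fin n)}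
    (hu : IsP p u) (hw : IsP p w) (hu1 : u ≠ 1) (hw1 : w ≠ 1) (Du : Decomp p u) (Dw : Decomp p w) (i₀ : Fin Du.c)
    (hi₀ : ∀ j, Du.len j ≤ Du.len i₀) (hle : ∀ j, Dw.len j ≤ Du.len i₀) :
    ∃ g : Perm (Fin n), Perm.sign g = 1 ∧ Good p u (g * w * g⁻¹) := by
  classical
  obtain ⟨i₁, hi₁⟩ := Dw.exists_big hp hw1
  obtain ⟨j₁, -, hj₁⟩ := Finset.exists_max_image (Finset.univ : Finset (Fin Dw.c)) Dw.len ⟨i₁, Finset.mem_univ _⟩
  have hp1 : p ≤ Dw.len j₁ := hi₁.trans (hj₁ i₁ (Finset.mem_univ _))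
  by_cases h5 : 5 ≤ Du.len i₀
  · obtain ⟨a, ha⟩ := Du.pow i₀
    obtain ⟨b, hb⟩ := Dw.pow j₁
    have hba : b ≤ a := (Nat.pow_le_pow_iff_right hp.one_lt).mp (by rw [← ha, ← hb]; exact hle j₁)
    have hsum := Dw.sum_len
    have hsum' := Du.sum_len
    have hle_n := Finset.single_le_sum (fun i _ => Nat.zero_le (Du.len i)) (Finset.mem_univ i₀)
    have hsplit := Finset.add_sum_erase (Finset.univ : Finset (Fin Dw.c)) Dw.len (Finset.mem_univ j₁)
    have hpp : (p ^ (a - b) - 1) * p ^ b = p ^ a - p ^ b := by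
      rw [Nat.sub_mul, one_mul, ← pow_add, Nat.sub_add_cancel hba]
    obtain ⟨S, hS, hSs⟩ := exists_fill hp Dw.len b ((Finset.univ : Finset (Fin Dw.c)).erase j₁) (fun i _ => by
        obtain ⟨e, he⟩ := Dw.pow i
        refine ⟨e, (Nat.pow_le_pow_iff_right hp.one_lt).mp ?_, he⟩
        rw [← he, ← hb]; exact hj₁ i (Finset.mem_univ _)) (p ^ (a - b) - 1) (by rw [hpp]; omega)
    have hj : j₁ ∉ S := fun h => Finset.notMem_erase j₁ _ (hS h)
    have := hle j₁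
    obtain ⟨f', W, hf', hw', hWp, hW1⟩ := Dw.exists_part hp hw (insert j₁ S) (L := Du.len i₀)
      (by rw [Finset.sum_insert hj, hSs, hpp]; omega) ⟨j₁, Finset.mem_insert_self _ _, by have := hp.two_le; omega⟩
    refine lift_local u w (fun k => Du.e ⟨i₀, k⟩) f' (fun x y h => ?_) hf' (finRotate _) W (fun k => ?_) hw'
      (local_cycle hp hp3 ha h5 W hWp hW1)
    · simpa using Du.e.injective h
    · rw [Du.spec]
      exact congrArg (fun q => Du.e ⟨i₀, q⟩) (Fin.ext (by rw [rot_val]; rfl))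
  have hp' : p = 3 := by
    have := hle j₁
    rcases (by omega : p = 3 ∨ p = 4) with h | h
    · exact h
    · exact absurd hp (h ▸ by norm_num)
  subst hp'
  by_cases hn5 : n = 5
  · subst hn5
    obtain ⟨k, U₀, hk, hb⟩ := local_five hu hu1 hw hw1
    exact lift_conj u w id id Function.injective_id Function.injective_id u w k U₀ (fun _ => rfl) (fun _ => rfl) hk hb
  have part : ∀ {v : Perm (Fin n)}, IsP 3 v → (D : Decomp 3 v) → ∀ j, 3 ≤ D.len j → (∀ i, D.len i ≤ 4) →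
      ∃ (f : Fin 6 → Fin n) (W : Perm (Fin 6)), Function.Injective f ∧ (∀ k, v (f k) = f (W k)) ∧ IsP 3 W ∧ W ≠ 1 := by
    intro v hv D j hj h4
    have hsum := D.sum_len
    have hsplit := Finset.add_sum_erase (Finset.univ : Finset (Fin D.c)) D.len (Finset.mem_univ j)
    have hpow : ∀ i, ∃ b ≤ 1, D.len i = 3 ^ b := fun i => by
      obtain ⟨e, he⟩ := D.pow i
      refine ⟨e, ?_, he⟩
      by_contra hlt
      have : 3 ^ 2 ≤ D.len i := he ▸ Nat.pow_le_pow_right (by norm_num) (by omega)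
      have := h4 i
      omega
    have hj3 : D.len j = 3 := by
      obtain ⟨e, he1, he⟩ := hpow j
      interval_cases e
      · rw [pow_zero] at he; omega
      · rw [he, pow_one]
    obtain ⟨S, hS, hSs⟩ := exists_fill Nat.prime_three D.len 1 ((Finset.univ : Finset (Fin D.c)).erase j)
      (fun i _ => hpow i) 1 (by rw [pow_one, one_mul]; omega)
    have hjS : j ∉ S := fun h => Finset.notMem_erase j _ (hS h)
    exact D.exists_part Nat.prime_three hv (insert j S) (L := 6) (by rw [Finset.sum_insert hjS, hSs, hj3]; norm_num)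
      ⟨j, Finset.mem_insert_self _ _, by omega⟩
  obtain ⟨i, hi⟩ := Du.exists_big hp hu1
  obtain ⟨f, U, hf, huf, hUp, hU1⟩ := part hu Du i hi fun j => by have := hi₀ j; omega
  obtain ⟨f', W, hf', hwf, hWp, hW1⟩ := part hw Dw j₁ hp1 fun j => by have := hle j; omega
  obtain ⟨k, U₀, hk, hb⟩ := local_six hUp hU1 hWp hW1
  exact lift_conj u w f f' hf hf' U W k U₀ huf hwf hk hb

/-- The statement for permutations. -/
theorem exists_good {n p : ℕ} (hn : 5 ≤ n) (hp : p.Prime) (hp3 : 3 ≤ p) {u w : Perm (Fin n)}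
    (hu : IsP p u) (hw : IsP p w) (hu1 : u ≠ 1) (hw1 : w ≠ 1) :
    ∃ g : Perm (Fin n), Perm.sign g = 1 ∧ Good p u (g * w * g⁻¹) := by
  obtain ⟨Du⟩ := exists_decomp hp u hu
  obtain ⟨Dw⟩ := exists_decomp hp w hw
  obtain ⟨i, -⟩ := Du.exists_big hp hu1
  obtain ⟨j, -⟩ := Dw.exists_big hp hw1
  obtain ⟨i₀, -, hi₀⟩ := Finset.exists_max_image (Finset.univ : Finset (Fin Du.c)) Du.len ⟨i, Finset.mem_univ _⟩
  obtain ⟨j₀, -, hj₀⟩ := Finset.exists_max_image (Finset.univ : Finset (Fin Dw.c)) Dw.len ⟨j, Finset.mem_univ _⟩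
  rcases le_total (Dw.len j₀) (Du.len i₀) with h | h
  · exact exists_good_of_le hn hp hp3 hu hw hu1 hw1 Du Dw i₀ (fun x => hi₀ x (Finset.mem_univ _))
      fun x => (hj₀ x (Finset.mem_univ _)).trans h
  obtain ⟨g, hg, hP, hS⟩ := exists_good_of_le hn hp hp3 hw hu hw1 hu1 Dw Du j₀ (fun x => hj₀ x (Finset.mem_univ _))
    fun x => (hi₀ x (Finset.mem_univ _)).trans h
  refine ⟨g⁻¹, by rw [map_inv, hg, inv_one], fun ⟨k, hk⟩ => hP ⟨k, ?_⟩, fun hs => hS ?_⟩
  · have e : w * (g * u * g⁻¹) = (w * g) * (u * (g⁻¹ * w * g⁻¹⁻¹)) * (w * g)⁻¹ := by group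
    rw [e, conj_pow, hk, mul_one, mul_inv_cancel]
  · let c : Perm (Fin n) ≃* Perm (Fin n) := MulAut.conj g
    have e : Subgroup.closure ({w, g * u * g⁻¹} : Set (Perm (Fin n))) =
        (Subgroup.closure ({u, g⁻¹ * w * g⁻¹⁻¹} : Set (Perm (Fin n)))).map c.toMonoidHom := by
      rw [MonoidHom.map_closure, Set.image_insert_eq, Set.image_singleton, Set.pair_comm]
      show _ = Subgroup.closure {g * u * g⁻¹, g * (g⁻¹ * w * g⁻¹⁻¹) * g⁻¹}
      rw [show g * (g⁻¹ * w * g⁻¹⁻¹) * g⁻¹ = w by group]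
    rw [e]
    haveI := hs
    exact Group.isSolvable_of_surjective (MonoidHom.subgroupMap_surjective c.toMonoidHom _)

end CfsgLib.AltPair
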